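import Mathlib

/-! Generated data: images in `G₂(4)` of six generators of the presented Suzuki group, and back. -/

set_option autoImplicit false

namespace Cfsg.Agent.G2Four

/-- The six images as words in the 36 root elements `3 r + s`. -/
def genWord : List (List ℕ) := [[14, 15, 14, 1],
  [6, 11, 33, 32, 11, 6],
  [0],
  [9, 0, 14, 29, 14, 9, 0],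
  [3, 14, 23, 17, 14, 3],
  [14, 16, 14, 2]]

/-- The 36 root elements as words in the six images. -/
def rootWord : List (List ℕ) := [[2],
  [1, 5, 2, 1, 0, 1, 5, 1, 2, 1],
  [1, 5, 2, 1, 0, 1, 5, 2, 1],
  [5, 4, 1, 2, 3, 2, 1, 0, 1, 2, 3, 2, 1, 5, 4],
  [1, 5, 4, 2, 3, 1, 2, 0, 1, 5, 3, 4, 2, 1],
  [4, 1, 2, 3, 2, 1, 5, 0, 1, 2, 3, 4, 1, 2, 1],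
  [5, 4, 3, 1, 2, 3, 1, 2, 0, 1, 5, 0, 1, 2, 0, 3, 4, 1, 2, 3, 1, 2, 1, 0, 1, 5, 3, 4, 3, 2, 1, 0, 1],
  [4, 3, 2, 1, 5, 0, 1, 0, 1, 5, 2, 3, 4, 1, 2, 3, 2, 1, 0, 1, 2, 0, 1, 5, 3, 4, 1, 0, 1],
  [4, 3, 2, 1, 5, 3, 2, 3, 2, 1, 2, 3, 4, 2, 3, 2, 1, 5, 1, 2, 3, 2, 3, 1, 2, 3, 4],
  [4, 3, 1, 2, 3, 4, 2, 1, 0, 5, 1, 2, 3, 2, 0, 1, 5, 4, 1, 0, 1, 2, 3, 2, 3, 4, 1],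
  [4, 3, 1, 2, 0, 1, 5, 2, 3, 4, 2, 0, 1, 2, 3, 2, 0, 1, 5, 4, 2, 3, 0, 1, 2, 3, 4, 1, 0, 1],
  [3, 2, 3, 1, 2, 0, 1, 5, 4, 1, 2, 1, 0, 1, 2, 3, 2, 3, 4, 1, 2, 3, 2, 1, 0, 1, 5, 2, 3, 4, 1],
  [4, 3, 2, 3, 1, 0, 1, 0, 2, 1, 5, 3, 4, 2, 3, 1, 2, 3, 0, 1, 0, 1, 2, 3, 4, 2],
  [4, 0, 1, 2, 3, 2, 1, 5, 0, 1, 2, 3, 4, 3, 2, 1, 0],
  [4, 1, 2, 3, 2, 1, 5, 3, 2, 3, 4, 3, 2, 3, 1, 2, 3, 4, 2, 1],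
  [3, 2, 1, 0, 3, 4, 3, 2, 3, 1, 2, 3, 0, 1, 2, 3, 4, 3, 0, 1, 2, 3],
  [3, 4, 2, 3, 2, 1, 0, 4, 2, 3, 2, 1, 5, 1, 2, 3, 0, 1, 2, 3, 4, 3, 1, 2, 3],
  [3, 4, 2, 3, 1, 2, 1, 0, 4, 3, 2, 1, 5, 0, 1, 2, 3, 0, 1, 2, 3, 4, 3, 1, 2, 3],
  [5, 1, 3, 2, 3, 4, 2, 3, 1, 2, 3, 4, 1, 2, 3, 2, 1, 5, 3],
  [5, 1, 2, 3, 2, 0, 4, 3, 2, 1, 5, 1, 0, 1, 2, 3, 4, 2, 3, 2, 0, 1, 5, 1],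
  [1, 5, 1, 2, 0, 3, 4, 2, 3, 2, 1, 0, 1, 2, 3, 4, 2, 3, 2, 0, 1, 5, 1],
  [1, 5, 4, 2, 0, 1, 0, 3, 4, 1, 2, 3, 1, 2, 1, 0, 1, 5, 3, 4, 2, 3, 2, 0, 1],
  [1, 5, 2, 3, 4, 3, 0, 1, 0, 2, 3, 1, 2, 3, 4, 0, 1, 2, 3, 2, 1, 0, 1, 5, 2, 3, 1],
  [1, 5, 0, 1, 2, 3, 2, 3, 1, 2, 3, 2, 1, 5, 0, 1],
  [3, 2, 1, 5, 1, 2, 3, 4, 1, 0, 1, 2, 1, 5, 3, 2, 3, 4, 3, 1, 2, 3, 1, 2, 0, 1, 5, 1, 2, 3, 1],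
  [2, 1, 2, 3, 4, 2, 3, 2, 1, 5, 3, 1, 2, 3, 4, 2, 3, 1, 2, 1],
  [2, 1, 5, 2, 3, 1, 2, 3, 4, 3, 2, 1, 0, 3, 1, 2, 3, 4, 1, 2, 3, 1, 2, 0, 1, 5, 2, 3, 1, 2, 1],
  [5, 3, 1, 2, 3, 4, 3, 2, 0, 1, 5, 2, 3, 2, 3, 4, 3, 1, 2, 3, 1, 2, 0, 1, 5, 4, 3],
  [3, 4, 1, 2, 3, 2, 3, 4, 1, 2, 3, 2, 1, 5, 3, 1, 2, 3, 4, 2, 3, 1, 2, 3, 4, 2, 3, 1],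
  [4, 2, 3, 1, 2, 3, 4, 0, 1, 2, 0, 3, 2, 1, 5, 1, 2, 3, 4, 2, 3, 1, 2, 3, 4, 3, 0, 1, 2],
  [1, 5, 3, 1, 2, 3, 1, 2, 1, 0, 1, 5, 4, 3, 2, 3, 4, 1, 0, 1, 2, 3, 2, 1, 5, 2, 3, 1],
  [3, 2, 1, 5, 1, 2, 3, 4, 1, 0, 2, 1, 5, 3, 2, 3, 4, 1, 2, 3, 2, 0, 1, 5, 1, 2, 3, 1],
  [2, 1, 5, 0, 1, 2, 3, 2, 1, 5, 4, 3, 1, 2, 3, 4, 1, 2, 3, 2, 1, 5, 1, 0, 1, 2],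
  [2, 1, 5, 0, 1, 2, 3, 2, 5, 4, 3, 1, 2, 3, 4, 0, 1, 2, 3, 2, 1, 5, 1, 0, 1, 2],
  [1, 5, 3, 1, 2, 3, 4, 2, 3, 2, 3, 1, 2, 3, 0, 1, 2, 3, 4, 2, 3, 2, 1, 5, 3, 1],
  [5, 3, 4, 1, 2, 3, 2, 0, 1, 5, 4, 3, 2, 3, 4, 0, 1, 2, 3, 2, 0, 1, 5, 4, 3]]

end Cfsg.Agent.G2Four
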