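import Cfsg.Agent.Lib.G2Six.Model
import Cfsg.Agent.Lib.Enum.SuzBData
import Cfsg.Agent.Lib.Enum.Bound
import Cfsg.Agent.Lib.G2Four.Data
import Cfsg.Agent.S1059

/-!
# Six generators of `G₂(4)` satisfying the relations of a subgroup of the presented Suzuki group
-/

set_option autoImplicit false

namespace Cfsg.Agent.G2Four

open Cfsg.Lie Cfsg.Agent.Chev G2Six

/-- A packed bit matrix from entries modulo 2. -/
def pack (f : ℕ → ℕ → ℕ) : ℕ :=
  Nat.ofBits fun i : Fin 36 => decide (f (i.val / 6) (i.val % 6) % 2 = 1)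

theorem bit_pack (f : ℕ → ℕ → ℕ) {a b : ℕ} (ha : a < 6) (hb : b < 6) :
    bit (pack f) a b = f a b % 2 := by
  rw [bit, ← Nat.toNat_testBit, pack, Nat.testBit_ofBits_lt _ _ (by omega : 6 * a + b < 36)]
  simp only [show (6 * a + b) / 6 = a by omega, show (6 * a + b) % 6 = b by omega]
  rcases Nat.mod_two_eq_zero_or_one (f a b) with h | h <;> simp [h]

theorem bit_xor (m n a b : ℕ) : bit (Nat.xor m n) a b = (bit m a b + bit n a b) % 2 := by
  simp only [bit, ← Nat.toNat_testBit]
  rw [show Nat.xor m n = m ^^^ n from rfl, Nat.testBit_xor]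
  cases m.testBit (6 * a + b) <;> cases n.testBit (6 * a + b) <;> rfl

/-- Product of packed bit matrices. -/
def pm (m n : ℕ) : ℕ := pack (mm (bit m) (bit n))

/-- Product of packed pairs `A + ω B`. -/
def vmul (p q : ℕ × ℕ) : ℕ × ℕ :=
  let bd := pm p.2 q.2
  (Nat.xor (pm p.1 q.1) bd, Nat.xor (Nat.xor (pm p.1 q.2) (pm p.2 q.1)) bd)

/-- The identity pair. -/
def vone : ℕ × ℕ := (ykN 0 0, 0)

/-- Pair of a root element. -/
def root (k : ℕ) : ℕ × ℕ :=
  let r := k / 3
  if k % 3 = 0 then (Nat.xor (Nat.xor (ykN 0 r) (ykN 1 r)) (ykN 2 r), 0)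
  else if k % 3 = 1 then (Nat.xor (ykN 0 r) (ykN 2 r), Nat.xor (ykN 1 r) (ykN 2 r))
  else (Nat.xor (ykN 0 r) (ykN 1 r), Nat.xor (ykN 1 r) (ykN 2 r))

/-- Pair of a product. -/
def wcode (g : ℕ → ℕ × ℕ) : List ℕ → ℕ × ℕ
  | [] => vone
  | x :: w => vmul (g x) (wcode g w)

/-- Word of a generator in root elements. -/
def gword (i : ℕ) : List ℕ := (genWord[i]?).getD []

/-- Pair of a generator. -/
def gcode (i : ℕ) : ℕ × ℕ := wcode root (gword i)

/-- Equality of pairs. -/
def veq (p q : ℕ × ℕ) : Bool := Nat.beq p.1 q.1 && Nat.beq p.2 q.2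

theorem veq_eq {p q : ℕ × ℕ} (h : veq p q = true) : p = q := by
  simp only [veq, Bool.and_eq_true] at h
  exact Prod.ext (Nat.eq_of_beq_eq_true h.1) (Nat.eq_of_beq_eq_true h.2)

theorem gen_invol : ∀ i : Fin 6, veq (vmul (gcode i) (gcode i)) vone = true := by decide +kernel

theorem gen_rels :
    Enum.SuzB.baseRels.all (fun w => veq (wcode gcode w) vone) = true := by decide +kernel

theorem root_gen :
    Enum.allRange (fun k => veq (wcode gcode ((rootWord[k]?).getD [])) (root k)) 8 0 36 = true := by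
  decide +kernel

theorem gword_lt : genWord.all (fun w => w.all fun x => Nat.blt x 36) = true ∧ genWord.length = 6 := by
  decide +kernel

variable {F : Type*} [Field F] (ω : F)

/-- The matrix of a pair. -/
def V (p : ℕ × ℕ) : Matrix W W F := cM6 (bit p.1) + ω • cM6 (bit p.2)

/-- The parameter of a root element number. -/
def par (k : ℕ) : F := if k % 3 = 0 then 1 else if k % 3 = 1 then ω else ω + 1

variable [CharP F 2] (hω : ω ^ 2 + ω + 1 = 0)

theorem cM6_pm (m n : ℕ) : (cM6 (bit (pm m n)) : Matrix W W F) = cM6 (bit m) * cM6 (bit n) := by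
  rw [cM6_mul]
  ext a b
  rw [cM6_apply, cM6_apply, pm, bit_pack _ (cd_lt a) (cd_lt b)]
  exact eq_of_even (by rw [Nat.beq_eq]; omega)

theorem cM6_xor (m n : ℕ) : (cM6 (bit (Nat.xor m n)) : Matrix W W F) = cM6 (bit m) + cM6 (bit n) := by
  rw [cM6_add]
  ext a b
  rw [cM6_apply, cM6_apply, bit_xor]
  exact eq_of_even (by rw [Nat.beq_eq]; omega)

include hω in
theorem sq_omega : ω ^ 2 = ω + 1 := by
  have h : ω + 1 + (ω + 1) = 0 := CharTwo.add_self_eq_zero _
  linear_combination hω - h

include hω in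
theorem V_vmul (p q : ℕ × ℕ) : V ω (vmul p q) = V ω p * V ω q := by
  simp only [V, vmul, cM6_xor, cM6_pm, add_mul, mul_add, Matrix.smul_mul, Matrix.mul_smul, smul_smul,
    ← pow_two, sq_omega ω hω, add_smul, one_smul, smul_add]
  abel

theorem cM6_bit_one : (cM6 (bit (ykN 0 0)) : Matrix W W F) = 1 := by
  ext a b
  have key : ∀ a b : W, bit (ykN 0 0) (cd a) (cd b) = if a = b then 1 else 0 := by decide +kernel
  rw [cM6_apply, key, Matrix.one_apply]
  split <;> simp

theorem cM6_bit_zero : (cM6 (bit 0) : Matrix W W F) = 0 := by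
  ext a b
  simp [cM6_apply, bit]

theorem V_one : V ω vone = 1 := by
  rw [V, vone, cM6_bit_one, cM6_bit_zero, smul_zero, add_zero]

include hω in
theorem V_root (k : ℕ) : V ω (root k) = Y (k / 3) (par ω k) := by
  have key : ∀ r c : ℕ, (cM6 (yk c r) : Matrix W W F) = cM6 (bit (ykN c r)) := fun _ _ => rfl
  have h2 : (ω + 1) ^ 2 = ω := by rw [CharTwo.add_sq, one_pow, sq_omega ω hω, add_assoc, CharTwo.add_self_eq_zero, add_zero]
  rw [Y, Finset.sum_range_succ, Finset.sum_range_succ, Finset.sum_range_one, pow_zero, pow_one, key, key, key]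
  unfold par root
  simp only [V]
  split_ifs
  · simp only [cM6_xor, cM6_bit_zero, smul_zero, add_zero, one_smul, one_pow]
  · simp only [cM6_xor, sq_omega ω hω, add_smul, one_smul, smul_add]
    abel
  · simp only [cM6_xor, h2, add_smul, one_smul, smul_add]
    abel

/-- The pair of groups. -/
abbrev PG (F : Type*) [Field F] [CharP F 2] := ↥(pairG F)

/-- The root element in the pair of groups. -/
def pe (k : ℕ) : PG F :=
  if h : k / 3 < 12 then
    ⟨(yu h (par ω k), G2.ok.xG (k / 3) (par ω k)), Subgroup.subset_closure ⟨_, h, _, rfl⟩⟩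
  else 1

/-- A generator in the pair of groups. -/
def hgen (i : ℕ) : PG F := ((gword i).map (pe ω)).prod

/-- The matrix part. -/
def mpart (p : PG F) : Matrix W W F := (p.1.1 : Matrix W W F)

omit hω in
theorem mpart_mul (p q : PG F) : mpart (p * q) = mpart p * mpart q := rfl

omit hω in
theorem eq_of_mpart {p q : PG F} (h : mpart p = mpart q) : p = q := by
  have h1 : (p⁻¹ * q).1.1 = 1 := by
    have : p.1.1 = q.1.1 := Units.ext h
    show (p.1.1)⁻¹ * q.1.1 = 1
    rw [this, inv_mul_cancel]
  have h2 := (pairG_injective (p⁻¹ * q).2).1 h1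
  have : p⁻¹ * q = 1 := Subtype.ext (Prod.ext h1 h2)
  exact inv_mul_eq_one.1 this

include hω in
theorem mpart_prod (f : ℕ → PG F) (g : ℕ → ℕ × ℕ) : ∀ w : List ℕ, (∀ x ∈ w, mpart (f x) = V ω (g x)) →
    mpart (w.map f).prod = V ω (wcode g w)
  | [], _ => (V_one ω).symm
  | x :: w, h => by
    rw [List.map_cons, List.prod_cons, mpart_mul, h x List.mem_cons_self,
      mpart_prod f g w fun y hy => h y (List.mem_cons_of_mem _ hy), wcode, V_vmul ω hω]

include hω in
theorem mpart_pe {k : ℕ} (hk : k < 36) : mpart (pe ω k) = V ω (root k) := by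
  rw [V_root ω hω, pe, dif_pos (by omega)]
  rfl

include hω in
theorem mpart_hgen (i : ℕ) : mpart (hgen ω i) = V ω (gcode i) := by
  refine mpart_prod ω hω _ _ _ fun x hx => mpart_pe ω hω ?_
  unfold gword at hx
  cases hw : genWord[i]? with
  | none => rw [hw] at hx; simp at hx
  | some w =>
    rw [hw] at hx
    simpa [Nat.blt_eq] using List.all_eq_true.1 (List.all_eq_true.1 gword_lt.1 w (List.mem_of_getElem? hw)) x hx

include hω in
theorem holding : Enum.Holding (hgen ω) 6 Enum.SuzB.baseRels where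
  invol x := by
    rcases Nat.lt_or_ge x 6 with h | h
    · refine eq_of_mpart ?_
      rw [mpart_mul, mpart_hgen ω hω, ← V_vmul ω hω, veq_eq (gen_invol ⟨x, h⟩), V_one]
      rfl
    · rw [hgen, gword, List.getElem?_eq_none (by rw [gword_lt.2]; exact h)]
      simp
  junk x h := by
    rw [hgen, gword, List.getElem?_eq_none (by rw [gword_lt.2]; exact h)]
    simp
  base w hw := eq_of_mpart (by
    rw [mpart_prod ω hω _ gcode w fun x _ => mpart_hgen ω hω x,
      veq_eq (List.all_eq_true.1 gen_rels w hw), V_one]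
    rfl)

include hω in
theorem hgen_gen [Fintype F] (hF : Fintype.card F = 4) :
    Subgroup.closure (Set.range (hgen ω)) = ⊤ := by
  classical
  rw [eq_top_iff]
  rintro p -
  obtain ⟨p, hp⟩ := p
  induction hp using Subgroup.closure_induction with
  | one => exact one_mem _
  | mul a b ha hb iha ihb => exact mul_mem iha ihb
  | inv a ha iha => exact inv_mem iha
  | mem a ha =>
    obtain ⟨r, hr, t, rfl⟩ := ha
    have hroot : ∀ s < 3, t = par ω (3 * r + s) →
        (⟨(yu hr t, G2.ok.xG r t), Subgroup.subset_closure ⟨r, hr, t, rfl⟩⟩ : PG F) ∈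
          Subgroup.closure (Set.range (hgen ω)) := by
      intro s hs ht
      have hk : 3 * r + s < 36 := by omega
      have hmem : ∀ w : List ℕ, (w.map (hgen ω)).prod ∈ Subgroup.closure (Set.range (hgen ω)) :=
        fun w => list_prod_mem fun x hx => by
          obtain ⟨i, -, rfl⟩ := List.mem_map.1 hx
          exact Subgroup.subset_closure ⟨i, rfl⟩
      convert hmem ((rootWord[3 * r + s]?).getD []) using 1
      refine eq_of_mpart ?_
      rw [mpart_prod ω hω _ gcode _ fun x _ => mpart_hgen ω hω x,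
        veq_eq (Enum.allRange_spec 8 0 36 root_gen _ (Nat.zero_le _) (by omega)), V_root ω hω,
        show (3 * r + s) / 3 = r by omega, ← ht]
      rfl
    have h0 : ω ≠ 0 := fun h => by simp [h] at hω
    have hcases : t = 0 ∨ t = 1 ∨ t = ω ∨ t = ω + 1 := by
      have hne : ω ≠ 1 := fun h => by
        rw [h, one_pow, CharTwo.add_self_eq_zero, zero_add] at hω
        exact one_ne_zero hω
      have hs : ({0, 1, ω, ω + 1} : Finset F) = Finset.univ := by
        apply Finset.eq_univ_of_card
        rw [hF, Finset.card_insert_of_notMem, Finset.card_insert_of_notMem, Finset.card_pair]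
        · simp
        · simp only [Finset.mem_insert, Finset.mem_singleton, not_or]
          exact ⟨hne.symm, by simpa using h0⟩
        · simp only [Finset.mem_insert, Finset.mem_singleton, not_or]
          exact ⟨zero_ne_one, h0.symm, fun h => hne (CharTwo.add_eq_zero.1 h.symm)⟩
      simpa using (hs ▸ Finset.mem_univ t : t ∈ ({0, 1, ω, ω + 1} : Finset F))
    rcases hcases with rfl | ht | ht | ht
    · convert one_mem (Subgroup.closure (Set.range (hgen ω))) using 1
      refine eq_of_mpart ?_
      show Y r 0 = 1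
      rw [Y, Finset.sum_range_succ, Finset.sum_range_succ, Finset.sum_range_one, pow_zero, one_smul,
        pow_one, zero_smul, zero_pow two_ne_zero, zero_smul, add_zero, add_zero]
      rw [show (cM6 (yk 0 r) : Matrix W W F) = cM6 (bit (ykN 0 0)) from rfl, cM6_bit_one]
    · exact hroot 0 (by norm_num) (by rw [ht, par, if_pos (by omega)])
    · exact hroot 1 (by norm_num) (by rw [ht, par, if_neg (by omega), if_pos (by omega)])
    · exact hroot 2 (by norm_num) (by rw [ht, par, if_neg (by omega), if_neg (by omega)])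

omit hω in
/-- The pair group is the adjoint group. -/
theorem pairG_equiv : Nonempty (PG F ≃* ↥(chevG2.group F)) := by
  let ψ : ↥(pairG F) →* GL chevG2.Idx F := (MonoidHom.snd _ _).comp (pairG F).subtype
  have hinj : Function.Injective ψ := (injective_iff_map_eq_one ψ).2 fun p hp =>
    Subtype.ext (Prod.ext ((pairG_injective p.2).2 hp) hp)
  have hrange : ψ.range = chevG2.group F := by
    refine le_antisymm ?_ ?_
    · rintro _ ⟨⟨p, hp⟩, rfl⟩
      have : pairG F ≤ (chevG2.group F).comap (MonoidHom.snd (GL W F) (GL chevG2.Idx F)) := by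
        rw [pairG, Subgroup.closure_le]
        rintro _ ⟨r, hr, t, rfl⟩
        show G2.ok.xG r t ∈ chevG2.group F
        refine Subgroup.subset_closure ⟨⟨r, hr⟩, t, ?_⟩
        rw [G2.ok.coe_xG, ChevalleyDatum.x, dif_pos (show r < chevG2.nroots from hr)]
      exact this hp
    · rw [ChevalleyDatum.group, Subgroup.closure_le]
      rintro g ⟨r, t, hg⟩
      refine ⟨⟨_, Subgroup.subset_closure ⟨r.val, r.isLt, t, rfl⟩⟩, ?_⟩
      show G2.ok.xG r.val t = g
      apply Units.ext
      rw [G2.ok.coe_xG, hg, ChevalleyDatum.x, dif_pos r.isLt]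
  exact ⟨(MonoidHom.ofInjective hinj).trans (MulEquiv.subgroupCongr hrange)⟩

end Cfsg.Agent.G2Four
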