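import Cfsg.Agent.Lib.Enum.SuzMain
import Cfsg.Agent.Lib.G2Four.Model

/-!
# The subgroup `⟨a, …, f⟩` of the presented Suzuki group is `G₂(4)`
-/

set_option autoImplicit false
set_option maxRecDepth 10000

namespace Cfsg.Agent.G2Four

open Cfsg.Agent.Enum Cfsg.Lie

universe v w

theorem relsB_suz : subRelsOK [0, 1, 2, 3, 4, 5] presSuz.relWords SuzB.baseRels = true := by decide +kernel

theorem step {G : Type v} [Group G] {g : ℕ → G} (h : Holding g 6 SuzB.baseRels) {L L' : List ℕ}
    {t : CoverData} {d : Data} {base : List (List ℕ)} {n : ℕ}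
    (hbase : subRelsOK L SuzB.baseRels base = true)
    (hcov : ∀ {G : Type v} [Group G] {g : ℕ → G}, Holding g n base →
      Subgroup.closure (Set.range g) = ⊤ → Covers g (wordClosure g d.subs) t d)
    (hn : L.length = n)
    (hL' : d.subs.map (fun w => w.map fun i => L.getD i 0) = L'.map fun x => [x])
    (hlt : d.subs.all (fun w => w.all fun i => Nat.blt i L.length) = true) {m : ℕ}
    (hm : Finite (gensClosure g L') ∧ Nat.card (gensClosure g L') ≤ m) :
    Finite (gensClosure g L) ∧ Nat.card (gensClosure g L) ≤ t.N * m :=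
  chain_step (hcov (hn ▸ holding_subGen h.invol h.base L hbase) (subGen_gen L)) hL' hlt hm

theorem gensClosure_six {G : Type*} [Group G] {g : ℕ → G} (h : Holding g 6 SuzB.baseRels) :
    gensClosure g [0, 1, 2, 3, 4, 5] = Subgroup.closure (Set.range g) := by
  refine le_antisymm (Subgroup.closure_mono ?_) ((Subgroup.closure_le _).2 ?_)
  · rintro _ ⟨x, -, rfl⟩; exact ⟨x, rfl⟩
  · rintro _ ⟨x, rfl⟩
    rcases Nat.lt_or_ge x 6 with hx | hx
    · exact Subgroup.subset_closure ⟨x, by interval_cases x <;> simp, rfl⟩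
    · rw [h.junk x hx]; exact one_mem _

theorem card_closure_le {G : Type*} [Group G] {g : ℕ → G} (h : Holding g 6 SuzB.baseRels) :
    Finite (Subgroup.closure (Set.range g)) ∧ Nat.card (Subgroup.closure (Set.range g)) ≤ 251596800 := by
  have h1 : Finite (gensClosure g [0, 1, 2, 3]) ∧ Nat.card (gensClosure g [0, 1, 2, 3]) ≤ 2160 * 1 :=
    step h (by decide +kernel) (fun hh hgen => SuzD.covers hh hgen) rfl (by decide +kernel)
      (by decide +kernel) chain_base
  have h2 : Finite (gensClosure g [0, 1, 2, 3, 4]) ∧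
      Nat.card (gensClosure g [0, 1, 2, 3, 4]) ≤ 280 * (2160 * 1) :=
    step h (by decide +kernel) (fun hh hgen => SuzC.covers hh hgen) rfl (by decide +kernel)
      (by decide +kernel) h1
  have h3 : Finite (gensClosure g [0, 1, 2, 3, 4, 5]) ∧
      Nat.card (gensClosure g [0, 1, 2, 3, 4, 5]) ≤ 416 * (280 * (2160 * 1)) :=
    step h (by decide +kernel) (fun hh hgen => SuzB.covers hh hgen) rfl (by decide +kernel)
      (by decide +kernel) h2
  rw [← gensClosure_six h]
  exact ⟨h3.1, h3.2.trans (by norm_num)⟩

theorem bijective_proj {G : Type v} [Group G] {C : Type w} [Group C] {c : ℕ → G}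
    (hc : Holding c 6 SuzB.baseRels) (π : G →* C) (hgen : Subgroup.closure (Set.range (π ∘ c)) = ⊤)
    (hC : Nat.card C = 251596800) :
    Function.Bijective (π.comp (Subgroup.closure (Set.range c)).subtype) := by
  obtain ⟨hfin, hle⟩ := card_closure_le hc
  haveI : Finite C := Nat.finite_of_card_ne_zero (by rw [hC]; norm_num)
  have hsurj : Function.Surjective (π.comp (Subgroup.closure (Set.range c)).subtype) := by
    rw [← MonoidHom.range_eq_top, MonoidHom.range_comp, Subgroup.range_subtype, MonoidHom.map_closure,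
      ← Set.range_comp, hgen]
  exact hsurj.bijective_of_nat_card_le (hle.trans hC.ge)

/-- Two groups of order 251596800 generated by six elements with the relations are isomorphic. -/
theorem mulEquiv_of_holding {A B : Type*} [Group A] [Group B] {a : ℕ → A} {b : ℕ → B}
    (ha : Holding a 6 SuzB.baseRels) (hb : Holding b 6 SuzB.baseRels)
    (hag : Subgroup.closure (Set.range a) = ⊤) (hbg : Subgroup.closure (Set.range b) = ⊤)
    (hA : Nat.card A = 251596800) (hB : Nat.card B = 251596800) : Nonempty (A ≃* B) := by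
  let c : ℕ → A × B := fun i => (a i, b i)
  have hc : Holding c 6 SuzB.baseRels :=
    { invol := fun x => Prod.ext (ha.invol x) (hb.invol x)
      junk := fun x hx => Prod.ext (ha.junk x hx) (hb.junk x hx)
      base := fun w hw => by
        refine Prod.ext ?_ ?_
        · have := map_list_prod (MonoidHom.fst A B) (w.map c)
          rw [List.map_map] at this
          exact this.trans (ha.base w hw)
        · have := map_list_prod (MonoidHom.snd A B) (w.map c)
          rw [List.map_map] at this
          exact this.trans (hb.base w hw) }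
  exact ⟨(MulEquiv.ofBijective _ (bijective_proj hc (MonoidHom.fst A B) hag hA)).symm.trans
    (MulEquiv.ofBijective _ (bijective_proj hc (MonoidHom.snd A B) hbg hB))⟩

theorem suzSub_card : Nat.card SuzA.sub = 251596800 := by
  haveI := SuzM.finite_grp
  have h := Subgroup.index_mul_card SuzA.sub
  rw [SuzA.index_sub, SuzM.card_grp] at h
  omega

/-- The subgroup `⟨a, …, f⟩` is the adjoint group of type `G₂` over four elements. -/
theorem sub_equiv {F : Type} [Field F] [Fintype F] (hF : Fintype.card F = 4) :
    Nonempty (SuzA.sub ≃* ↥(chevG2.group F)) := by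
  classical
  haveI : Fact (Nat.Prime 2) := ⟨Nat.prime_two⟩
  haveI : CharP F 2 := charP_of_card_eq_prime_pow (f := 2) (by rw [hF]; norm_num)
  obtain ⟨ω, hω⟩ : ∃ ω : F, ω ^ 2 + ω + 1 = 0 := by
    obtain ⟨x, hx0, hx1⟩ : ∃ x : F, x ≠ 0 ∧ x ≠ 1 := by
      obtain ⟨x, hx⟩ := Finset.card_pos.1 (show 0 < ((Finset.univ.erase (0 : F)).erase 1).card by
        rw [Finset.card_erase_of_mem (by simp), Finset.card_erase_of_mem (by simp), Finset.card_univ, hF]
        norm_num)
      simp only [Finset.mem_erase, Finset.mem_univ, and_true] at hx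
      exact ⟨x, hx.2, hx.1⟩
    have h3 : x ^ 3 = 1 := by
      have := FiniteField.pow_card_sub_one_eq_one x hx0
      rwa [hF] at this
    refine ⟨x, (mul_eq_zero.1 ?_).resolve_left (sub_ne_zero.2 hx1)⟩
    linear_combination h3
  obtain ⟨e⟩ := pairG_equiv (F := F)
  have hB : Nat.card (PG F) = 251596800 := by
    rw [Nat.card_congr e.toEquiv, S1059.result hF]
    norm_num
  have hs : SuzA.sub = gensClosure presSuz.g [0, 1, 2, 3, 4, 5] :=
    wordClosure_singletons presSuz.g [0, 1, 2, 3, 4, 5]
  rw [hs]
  obtain ⟨f⟩ := mulEquiv_of_holding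
    (holding_subGen presSuz.g_mul_self presSuz.relWords_one [0, 1, 2, 3, 4, 5] relsB_suz)
    (holding ω hω) (subGen_gen _) (hgen_gen ω hω hF) (hs ▸ suzSub_card) hB
  exact ⟨f.trans e⟩

end Cfsg.Agent.G2Four
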