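import Cfsg.Agent.Lib.G2Four.CoverOk
import Cfsg.Agent.Lib.G2Four.SuzSub
import Cfsg.Prelude.Def_KGroupFacts

/-!
# A double cover of `G₂(4)`
-/

set_option autoImplicit false
set_option maxRecDepth 10000

namespace Cfsg.Agent.G2Four

open Cfsg.Agent.Enum
open scoped commutatorElement

universe v

theorem xor_one_div (p : ℕ) : (p ^^^ 1) / 2 = p / 2 ∧ (p ^^^ 1) % 2 = (p % 2) ^^^ 1 := by
  rcases Nat.even_or_odd p with h | h
  · rw [Nat.xor_one_of_even h]
    obtain ⟨k, rfl⟩ := h
    refine ⟨by omega, ?_⟩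
    rw [show (k + k) % 2 = 0 by omega, show (k + k + 1) % 2 = 1 by omega]
    rfl
  · rw [Nat.xor_one_of_odd h]
    obtain ⟨k, rfl⟩ := h
    refine ⟨by omega, ?_⟩
    rw [show (2 * k + 1) % 2 = 1 by omega, show (2 * k + 1 - 1) % 2 = 0 by omega]
    rfl

theorem cimg_xor_one (g p : ℕ) : cimg g (p ^^^ 1) = cimg g p ^^^ 1 := by
  obtain ⟨h1, h2⟩ := xor_one_div p
  simp only [cimg, show ∀ a b : ℕ, Nat.div a b = a / b from fun _ _ => rfl,
    show ∀ a b : ℕ, Nat.mod a b = a % b from fun _ _ => rfl,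
    show ∀ a b : ℕ, Nat.xor a b = a ^^^ b from fun _ _ => rfl, h1, h2]
  exact (Nat.xor_assoc _ _ _).symm

theorem cimg_xor (g p : ℕ) {b : ℕ} (hb : b < 2) : cimg g (p ^^^ b) = cimg g p ^^^ b := by
  interval_cases b
  · simp
  · exact cimg_xor_one g p

theorem wimg_xor : ∀ (w : List ℕ) (p : ℕ) {b : ℕ}, b < 2 → wimg w (p ^^^ b) = wimg w p ^^^ b
  | [], _, _, _ => rfl
  | g :: w, p, b, hb => by
    show cimg g (wimg w (p ^^^ b)) = cimg g (wimg w p) ^^^ b
    rw [wimg_xor w p hb, cimg_xor g _ hb]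

theorem point_eq (p : ℕ) : p = (2 * (p / 2)) ^^^ (p % 2) := by
  rcases Nat.mod_two_eq_zero_or_one p with h | h
  · rw [h, Nat.xor_zero]; omega
  · rw [h, Nat.xor_one_of_even (even_two_mul _)]; omega

theorem xor_lt {p b : ℕ} (hp : p < 8064) (hb : b < 2) : p ^^^ b < 8064 := by
  interval_cases b
  · simpa using hp
  · have := (xor_one_div p).1
    omega

theorem cimg_lt {g p : ℕ} (hg : g < 6) (hp : p < 8064) : cimg g p < 8064 := by
  have := allRange_spec 16 0 4032 (inv_ok hg) (p / 2) (Nat.zero_le _) (by omega)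
  simp only [Bool.and_eq_true] at this
  have hb : p % 2 < 2 := Nat.mod_lt _ (by norm_num)
  rw [point_eq p, cimg_xor g _ hb]
  exact xor_lt (Nat.le_of_ble_eq_true this.1) hb

theorem cvSq_lt {g : ℕ} (hg : g < 6) : cvSq.getD g 0 < 2 := by
  interval_cases g <;> decide

theorem cimg_cimg {g p : ℕ} (hg : g < 6) (hp : p < 8064) :
    cimg g (cimg g p) = p ^^^ cvSq.getD g 0 := by
  have h := inv_ok hg
  have := allRange_spec 16 0 4032 h (p / 2) (Nat.zero_le _) (by omega)
  simp only [Bool.and_eq_true] at this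
  have h2 : cimg g (cimg g (2 * (p / 2))) = (2 * (p / 2)) ^^^ cvSq.getD g 0 := Nat.eq_of_beq_eq_true this.2
  have hb : p % 2 < 2 := Nat.mod_lt _ (by norm_num)
  conv_lhs => rw [point_eq p, cimg_xor g _ hb, cimg_xor g _ hb, h2]
  conv_rhs => rw [point_eq p]
  rw [Nat.xor_assoc, Nat.xor_comm (cvSq.getD g 0), ← Nat.xor_assoc]

theorem wimg_of_ok {w : List ℕ} {b p : ℕ} (h : OkWord w b) (hp : p < 8064) :
    wimg w p = p ^^^ b := by
  have h2 := h.2.2 (p / 2) (by omega)
  conv_lhs => rw [point_eq p, wimg_xor w _ (Nat.mod_lt _ (by norm_num)), h2]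
  conv_rhs => rw [point_eq p]
  rw [Nat.xor_assoc, Nat.xor_comm b, ← Nat.xor_assoc]

/-- Change of sign. -/
def sgn (b : ℕ) : Equiv.Perm (Fin 8064) :=
  if hb : b < 2 then
    Function.Involutive.toPerm (fun p => ⟨p.val ^^^ b, xor_lt p.isLt hb⟩) fun p =>
      Fin.ext (Nat.xor_xor_cancel_right p.val b)
  else 1

theorem sgn_apply {b : ℕ} (hb : b < 2) (p : Fin 8064) : (sgn b p : ℕ) = p.val ^^^ b := by
  rw [sgn, dif_pos hb]; rfl

theorem sgn_zero : sgn 0 = 1 :=
  Equiv.ext fun p => Fin.ext (by rw [sgn_apply (by norm_num)]; simp)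

/-- The signed permutation of a generator. -/
noncomputable def cperm (g : ℕ) : Equiv.Perm (Fin 8064) :=
  if hg : g < 6 then
    { toFun := fun p => ⟨cimg g p, cimg_lt hg p.isLt⟩
      invFun := fun p => ⟨cimg g p ^^^ cvSq.getD g 0, xor_lt (cimg_lt hg p.isLt) (cvSq_lt hg)⟩
      left_inv := fun p => Fin.ext (by
        show cimg g (cimg g p) ^^^ cvSq.getD g 0 = p
        rw [cimg_cimg hg p.isLt, Nat.xor_xor_cancel_right])
      right_inv := fun p => Fin.ext (by
        show cimg g (cimg g p ^^^ cvSq.getD g 0) = p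
        rw [cimg_xor g _ (cvSq_lt hg), cimg_cimg hg p.isLt, Nat.xor_xor_cancel_right]) }
  else 1

theorem cperm_apply {g : ℕ} (hg : g < 6) (p : Fin 8064) : (cperm g p : ℕ) = cimg g p := by
  rw [cperm, dif_pos hg]; rfl

theorem prod_cperm_apply : ∀ (w : List ℕ), (∀ g ∈ w, g < 6) → ∀ p : Fin 8064,
    ((w.map cperm).prod p : ℕ) = wimg w p
  | [], _, _ => rfl
  | g :: w, h, p => by
    rw [List.map_cons, List.prod_cons, Equiv.Perm.mul_apply, cperm_apply (h g List.mem_cons_self),
      prod_cperm_apply w (fun x hx => h x (List.mem_cons_of_mem _ hx)) p]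
    rfl

theorem prod_cperm {w : List ℕ} {b : ℕ} (h : OkWord w b) : (w.map cperm).prod = sgn b := by
  refine Equiv.ext fun p => Fin.ext ?_
  rw [prod_cperm_apply w h.1, wimg_of_ok h p.isLt, sgn_apply h.2.1]

theorem sgn_comm (g : ℕ) : sgn 1 * cperm g = cperm g * sgn 1 := by
  rcases Nat.lt_or_ge g 6 with hg | hg
  · refine Equiv.ext fun p => Fin.ext ?_
    simp only [Equiv.Perm.mul_apply]
    rw [sgn_apply (by norm_num), cperm_apply hg, cperm_apply hg, sgn_apply (by norm_num), cimg_xor_one]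
  · rw [cperm, dif_neg (by omega), mul_one, one_mul]

section Ext

variable {F : Type v} [Field F] [CharP F 2] (ω : F)

/-- A generator of the cover. -/
noncomputable def cgen (i : ℕ) : PG F × Equiv.Perm (Fin 8064) := (hgen ω i, cperm i)

/-- The cover. -/
noncomputable def Cov : Subgroup (PG F × Equiv.Perm (Fin 8064)) := Subgroup.closure (Set.range (cgen ω))

/-- A generator in the cover. -/
noncomputable def cg (i : ℕ) : ↥(Cov ω) := ⟨cgen ω i, Subgroup.subset_closure ⟨i, rfl⟩⟩

/-- The projection. -/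
noncomputable def cproj : ↥(Cov ω) →* PG F := (MonoidHom.fst _ _).comp (Cov ω).subtype

variable {ω} (hω : ω ^ 2 + ω + 1 = 0)
include hω

theorem coe_prod {w : List ℕ} {b : ℕ} (hv : veq (wcode gcode w) vone = true) (h : OkWord w b) :
    (((w.map (cg ω)).prod : ↥(Cov ω)) : PG F × Equiv.Perm (Fin 8064)) = (1, sgn b) := by
  rw [Subgroup.val_list_prod, List.map_map]
  refine Prod.ext ?_ ?_
  · have := map_list_prod (MonoidHom.fst (PG F) (Equiv.Perm (Fin 8064))) (w.map (cgen ω))
    rw [List.map_map] at this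
    refine this.trans (eq_of_mpart ?_)
    rw [show ((MonoidHom.fst (PG F) (Equiv.Perm (Fin 8064))) ∘ cgen ω) = hgen ω from rfl,
      mpart_prod ω hω _ gcode w fun x _ => mpart_hgen ω hω x, veq_eq hv, V_one]
    rfl
  · have := map_list_prod (MonoidHom.snd (PG F) (Equiv.Perm (Fin 8064))) (w.map (cgen ω))
    rw [List.map_map] at this
    exact this.trans (prod_cperm h)

/-- A stem extension of `G₂(4)` with kernel of order two. -/
theorem exists_cover [Fintype F] (hF : Fintype.card F = 4) (hcard : Nat.card (PG F) = 251596800) :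
    ∃ σ : ↥(Cov ω) →* PG F, Cfsg.IsStemExtension σ ∧ Nonempty (σ.ker ≃* Multiplicative (ZMod 2)) := by
  classical
  haveI : Finite (PG F) := Nat.finite_of_card_ne_zero (by rw [hcard]; norm_num)
  let ζ : ↥(Cov ω) := ([3, 3].map (cg ω)).prod
  have e33 : (ζ : PG F × Equiv.Perm (Fin 8064)) = (1, sgn 1) := coe_prod hω (by decide +kernel)
    (rels_ok ([3, 3], 1) (by simp [cvRels]))
  have hζσ : cproj ω ζ = 1 := congrArg Prod.fst e33
  have hcz : ζ ∈ Subgroup.center ↥(Cov ω) := by
    rw [Subgroup.mem_center_iff]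
    intro x
    have hle : Cov ω ≤ Subgroup.centralizer {(1, sgn 1)} := by
      refine (Subgroup.closure_le _).2 ?_
      rintro _ ⟨i, rfl⟩
      rw [SetLike.mem_coe, Subgroup.mem_centralizer_singleton_iff]
      exact Prod.ext (by simp [cgen]) (sgn_comm i).symm
    have := Subgroup.mem_centralizer_singleton_iff.1 (hle x.2)
    exact Subtype.ext (by simpa [e33] using this)
  set Z := Subgroup.zpowers ζ with hZ
  haveI : Z.Normal := by
    refine ⟨fun x hx y => ?_⟩
    have hxc : x ∈ Subgroup.center ↥(Cov ω) := (Subgroup.zpowers_le.2 hcz) hx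
    rw [Subgroup.mem_center_iff.1 hxc y, mul_inv_cancel_right]
    exact hx
  have hgc : Subgroup.closure (Set.range (cg ω)) = ⊤ := by
    rw [← Subgroup.map_injective (Cov ω).subtype_injective |>.eq_iff, MonoidHom.map_closure,
      ← Set.range_comp, ← MonoidHom.range_eq_map, Subgroup.range_subtype]
    rfl
  let q : ↥(Cov ω) →* ↥(Cov ω) ⧸ Z := QuotientGroup.mk' Z
  have hq : ∀ {w : List ℕ} {b : ℕ}, veq (wcode gcode w) vone = true → OkWord w b →
      (w.map (q ∘ cg ω)).prod = 1 := by
    intro w b hv h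
    rw [← List.map_map, ← map_list_prod]
    refine (QuotientGroup.eq_one_iff _).2 ?_
    have e := coe_prod hω hv h
    have hb : b < 2 := h.2.1
    interval_cases b
    · rw [show ((w.map (cg ω)).prod : ↥(Cov ω)) = 1 from Subtype.ext (by rw [e, sgn_zero]; rfl)]
      exact one_mem _
    · rw [show ((w.map (cg ω)).prod : ↥(Cov ω)) = ζ from Subtype.ext (e.trans e33.symm)]
      exact Subgroup.mem_zpowers ζ
  have hrel : ∀ w ∈ SuzB.baseRels, (w.map (q ∘ cg ω)).prod = 1 := by
    intro w hw
    obtain ⟨r, hr, e⟩ := List.any_eq_true.1 (List.all_eq_true.1 rels_cover w hw)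
    obtain rfl : r.1 = w := eq_of_beq e
    exact hq (List.all_eq_true.1 gen_rels _ hw) (rels_ok r hr)
  have hinv : ∀ i, i < 6 → [i, i] ∈ SuzB.baseRels := by decide +kernel
  have hjunk : ∀ i, 6 ≤ i → cg ω i = 1 := fun i hi => Subtype.ext (Prod.ext
    ((holding ω hω).junk i hi) (by show cperm i = 1; rw [cperm, dif_neg (by omega)]))
  have hH : Holding (q ∘ cg ω) 6 SuzB.baseRels :=
    { invol := fun i => by
        rcases Nat.lt_or_ge i 6 with hi | hi
        · simpa using hrel [i, i] (hinv i hi)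
        · simp [hjunk i hi]
      junk := fun i hi => by simp [hjunk i hi]
      base := hrel }
  obtain ⟨hfin, hle⟩ := card_closure_le hH
  have hgq : Subgroup.closure (Set.range (q ∘ cg ω)) = ⊤ := by
    rw [Set.range_comp, ← MonoidHom.map_closure, hgc,
      Subgroup.map_top_of_surjective q (QuotientGroup.mk'_surjective Z)]
  rw [hgq, Subgroup.card_top] at hle
  have hsurj : Function.Surjective (cproj ω) := by
    rw [← MonoidHom.range_eq_top, cproj, MonoidHom.range_comp, Subgroup.range_subtype, Cov,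
      MonoidHom.map_closure, ← Set.range_comp]
    exact hgen_gen ω hω hF
  have hZk : Z ≤ (cproj ω).ker := by rw [hZ, Subgroup.zpowers_le]; exact hζσ
  have hker : (cproj ω).ker = Z := by
    refine le_antisymm ?_ hZk
    have hs' : Function.Surjective (QuotientGroup.lift Z (cproj ω) hZk) :=
      QuotientGroup.lift_surjective_of_surjective _ _ hsurj _
    have hbij := hs'.bijective_of_nat_card_le (hle.trans hcard.ge)
    intro x hx
    rw [← QuotientGroup.eq_one_iff]
    exact hbij.1 (show QuotientGroup.lift Z (cproj ω) hZk (QuotientGroup.mk x) =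
      QuotientGroup.lift Z (cproj ω) hZk 1 by rw [map_one]; exact hx)
  have hne : ζ ≠ 1 := fun h => by
    have e : sgn 1 = 1 := by
      have := congrArg (fun x : ↥(Cov ω) => (x : PG F × Equiv.Perm (Fin 8064)).2) h
      simpa [e33] using this
    have := congrArg (fun σ : Equiv.Perm (Fin 8064) => (σ ⟨0, by norm_num⟩ : ℕ)) e
    simp [sgn_apply] at this
  have hζ2 : ζ * ζ = 1 := Subtype.ext (by
    simp only [Subgroup.coe_mul, e33, Subgroup.coe_one]
    refine Prod.ext (one_mul 1) (Equiv.ext fun p => Fin.ext ?_)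
    simp [sgn_apply])
  refine ⟨cproj ω, ⟨hsurj, ?_, ?_⟩, ?_⟩
  · rw [hker, hZ, Subgroup.zpowers_le]; exact hcz
  · rw [hker, hZ, Subgroup.zpowers_le]
    let e := (cvU.map (cg ω)).prod
    let y := (cvV.map (cg ω)).prod
    have eee : e * e = ζ := Subtype.ext (by
      have h := coe_prod hω (w := cvU ++ cvU) (b := 1) (by decide +kernel) uu_ok
      rw [e33, ← h, List.map_append, List.prod_append])
    have eyy : y * y = ζ := Subtype.ext (by
      have h := coe_prod hω (w := cvV ++ cvV) (b := 1) (by decide +kernel) vv_ok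
      rw [e33, ← h, List.map_append, List.prod_append])
    have eey : e * y * (e * y) = ζ := Subtype.ext (by
      have h := coe_prod hω (w := cvU ++ cvV ++ (cvU ++ cvV)) (b := 1) (by decide +kernel) uv_ok
      rw [e33, ← h]
      simp [e, y, List.prod_append, mul_assoc])
    have hz := Subgroup.mem_center_iff.1 hcz
    have : ⁅e, y⁆ = ζ := by
      have he : e⁻¹ = e * ζ := by
        refine inv_eq_of_mul_eq_one_right ?_
        rw [← mul_assoc, eee, hζ2]
      have hy : y⁻¹ = y * ζ := by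
        refine inv_eq_of_mul_eq_one_right ?_
        rw [← mul_assoc, eyy, hζ2]
      rw [commutatorElement_def, he, hy]
      calc e * y * (e * ζ) * (y * ζ) = e * y * e * (ζ * y) * ζ := by group
        _ = e * y * (e * y) * (ζ * ζ) := by rw [← hz y]; group
        _ = ζ := by rw [hζ2, mul_one, eey]
    rw [← this]
    exact Subgroup.commutator_mem_commutator (Subgroup.mem_top e) (Subgroup.mem_top y)
  · have hcard2 : Nat.card (cproj ω).ker = 2 := by
      rw [hker, hZ, Nat.card_zpowers]
      exact orderOf_eq_prime (by rw [pow_two, hζ2]) hne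
    haveI : Fact (Nat.Prime 2) := ⟨Nat.prime_two⟩
    haveI : IsCyclic (cproj ω).ker := isCyclic_of_prime_card hcard2
    exact ⟨mulEquivOfCyclicCardEq (by rw [hcard2]; simp)⟩

end Ext

end Cfsg.Agent.G2Four
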