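import Cfsg.Agent.Lib.G2Four.CoverData
import Cfsg.Agent.Lib.Enum.SuzBData

/-!
# Checkers for the signed permutations of the double cover
-/

set_option autoImplicit false
set_option maxRecDepth 100000

namespace Cfsg.Agent.G2Four

open Enum (Tree allRange allRange_spec)

/-- The block with a given number, by the recursor. -/
noncomputable def tget (t : Tree) : ℕ → ℕ :=
  Tree.rec (fun v _ => v) (fun k _ _ ihl ihr i => Bool.rec (ihr (i - k)) (ihl i) (Nat.blt i k)) t

/-- The image of a signed point. -/
noncomputable def cimg (g p : ℕ) : ℕ :=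
  Nat.xor (Nat.land (Nat.shiftRight (tget (cvTree g) (Nat.div (Nat.div p 2) 256))
    (Nat.mul (Nat.mod (Nat.div p 2) 256) 13)) 8191) (Nat.mod p 2)

/-- The image of a signed point under a word, rightmost letter first. -/
noncomputable def wimg (w : List ℕ) (p : ℕ) : ℕ := List.rec p (fun g _ ih => cimg g ih) w

/-- A generator squares to its sign on all the points. -/
noncomputable def chkInv (g : ℕ) : Bool :=
  allRange (fun x => Nat.blt (cimg g (2 * x)) 8064 &&
    Nat.beq (cimg g (cimg g (2 * x))) (Nat.xor (2 * x) (cvSq.getD g 0))) 16 0 4032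

/-- A word acts as a sign on an interval of points. -/
noncomputable def chkPts (w : List ℕ) (b lo len : ℕ) : Bool :=
  allRange (fun x => Nat.beq (wimg w (2 * x)) (Nat.xor (2 * x) b)) 16 lo len

/-- A word acts as a sign. -/
def OkWord (w : List ℕ) (b : ℕ) : Prop :=
  (∀ g ∈ w, g < 6) ∧ b < 2 ∧ ∀ x < 4032, wimg w (2 * x) = (2 * x) ^^^ b

/-- The letters and the sign of a checked word are in range. -/
def chkShape (w : List ℕ) (b : ℕ) : Bool := w.all (fun g => Nat.blt g 6) && Nat.blt b 2

theorem okWord_of_halves {w : List ℕ} {b : ℕ} (hs : chkShape w b = true)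
    (h0 : chkPts w b 0 2016 = true) (h1 : chkPts w b 2016 2016 = true) : OkWord w b := by
  simp only [chkShape, Bool.and_eq_true, List.all_eq_true] at hs
  refine ⟨fun g hg => Nat.le_of_ble_eq_true (hs.1 g hg), Nat.le_of_ble_eq_true hs.2, fun x hx => ?_⟩
  rcases Nat.lt_or_ge x 2016 with h | h
  · exact Nat.eq_of_beq_eq_true (allRange_spec 16 0 2016 h0 x (Nat.zero_le _) (by omega))
  · exact Nat.eq_of_beq_eq_true (allRange_spec 16 2016 2016 h1 x h (by omega))

theorem rels_cover : Enum.SuzB.baseRels.all (fun w => cvRels.any fun r => r.1 == w) = true := by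
  decide +kernel

end Cfsg.Agent.G2Four
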