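import Cfsg.Agent.Lib.G2Four.CoverChk

/-! Generated: kernel checks on the double cover. -/

set_option autoImplicit false
set_option maxRecDepth 100000

namespace Cfsg.Agent.G2Four

theorem uv_0 : chkPts (cvU ++ cvV ++ (cvU ++ cvV)) 1 0 2016 = true := by decide +kernel

theorem vv_0 : chkPts (cvV ++ cvV) 1 0 2016 = true := by decide +kernel

theorem uu_0 : chkPts (cvU ++ cvU) 1 0 2016 = true := by decide +kernel

theorem rel15_0 : chkPts [2, 3, 2, 3, 2, 3, 2, 3, 2, 3, 2, 3, 2, 3, 2, 3] 0 0 2016 = true := by decide +kernel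

theorem rel14_1 : chkPts [1, 5, 1, 5, 1, 5] 0 2016 2016 = true := by decide +kernel

theorem rel11_0 : chkPts [1, 2, 1, 2, 1, 2] 0 0 2016 = true := by decide +kernel

theorem rel7_1 : chkPts [0, 2, 0, 2] 0 2016 2016 = true := by decide +kernel

theorem rel19_1 : chkPts [3, 5, 3, 5] 1 2016 2016 = true := by decide +kernel

theorem rel16_1 : chkPts [2, 4, 2, 4] 1 2016 2016 = true := by decide +kernel

theorem rel12_1 : chkPts [1, 3, 1, 3] 1 2016 2016 = true := by decide +kernel

theorem rel5_1 : chkPts [5, 5] 0 2016 2016 = true := by decide +kernel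

theorem rel5_0 : chkPts [5, 5] 0 0 2016 = true := by decide +kernel

theorem rel3_0 : chkPts [3, 3] 1 0 2016 = true := by decide +kernel

theorem rel1_0 : chkPts [1, 1] 0 0 2016 = true := by decide +kernel

theorem inv_ok0 : [0, 1, 2].all chkInv = true := by decide +kernel

theorem inv_ok1 : [3, 4, 5].all chkInv = true := by decide +kernel

end Cfsg.Agent.G2Four
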