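import Cfsg.Agent.Lib.G2Four.CoverChk

/-! Generated: kernel checks on the double cover. -/

set_option autoImplicit false
set_option maxRecDepth 100000

namespace Cfsg.Agent.G2Four

theorem rel23_1 : chkPts [1, 2, 3, 2, 3, 1, 2, 3, 2, 3, 1, 2, 3, 2, 3, 1, 2, 3, 2, 3, 1, 2, 3, 2, 3, 4, 1, 2, 3, 2, 3, 1, 2, 3, 2, 3, 1, 2, 3, 2, 3, 1, 2, 3, 2, 3, 1, 2, 3, 2, 3, 4, 1, 2, 3, 2, 3, 1, 2, 3, 2, 3, 1, 2, 3, 2, 3, 1, 2, 3, 2, 3, 1, 2, 3, 2, 3, 4] 1 2016 2016 = true := by decide +kernel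

theorem rel22_0 : chkPts [0, 1, 2, 5, 0, 1, 2, 5, 0, 1, 2, 5, 0, 1, 2, 5, 0, 1, 2, 5] 1 0 2016 = true := by decide +kernel

theorem rel21_1 : chkPts [0, 3, 2, 3, 2, 3, 2, 3, 2] 0 2016 2016 = true := by decide +kernel

theorem rel18_1 : chkPts [3, 4, 3, 4, 3, 4] 1 2016 2016 = true := by decide +kernel

theorem rel14_0 : chkPts [1, 5, 1, 5, 1, 5] 0 0 2016 = true := by decide +kernel

theorem rel9_0 : chkPts [0, 4, 0, 4] 1 0 2016 = true := by decide +kernel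

theorem rel7_0 : chkPts [0, 2, 0, 2] 0 0 2016 = true := by decide +kernel

theorem rel19_0 : chkPts [3, 5, 3, 5] 1 0 2016 = true := by decide +kernel

theorem rel16_0 : chkPts [2, 4, 2, 4] 1 0 2016 = true := by decide +kernel

theorem rel12_0 : chkPts [1, 3, 1, 3] 1 0 2016 = true := by decide +kernel

theorem rel4_1 : chkPts [4, 4] 1 2016 2016 = true := by decide +kernel

theorem rel2_1 : chkPts [2, 2] 0 2016 2016 = true := by decide +kernel

theorem rel0_1 : chkPts [0, 0] 0 2016 2016 = true := by decide +kernel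

end Cfsg.Agent.G2Four
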