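import Cfsg.Agent.Lib.G2Four.CoverChk

/-! Generated: kernel checks on the double cover. -/

set_option autoImplicit false
set_option maxRecDepth 100000

namespace Cfsg.Agent.G2Four

theorem rel23_0 : chkPts [1, 2, 3, 2, 3, 1, 2, 3, 2, 3, 1, 2, 3, 2, 3, 1, 2, 3, 2, 3, 1, 2, 3, 2, 3, 4, 1, 2, 3, 2, 3, 1, 2, 3, 2, 3, 1, 2, 3, 2, 3, 1, 2, 3, 2, 3, 1, 2, 3, 2, 3, 4, 1, 2, 3, 2, 3, 1, 2, 3, 2, 3, 1, 2, 3, 2, 3, 1, 2, 3, 2, 3, 1, 2, 3, 2, 3, 4] 1 0 2016 = true := by decide +kernel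

theorem rel22_1 : chkPts [0, 1, 2, 5, 0, 1, 2, 5, 0, 1, 2, 5, 0, 1, 2, 5, 0, 1, 2, 5] 1 2016 2016 = true := by decide +kernel

theorem rel6_0 : chkPts [0, 1, 0, 1, 0, 1, 0, 1, 0, 1] 0 0 2016 = true := by decide +kernel

theorem rel18_0 : chkPts [3, 4, 3, 4, 3, 4] 1 0 2016 = true := by decide +kernel

theorem rel11_1 : chkPts [1, 2, 1, 2, 1, 2] 0 2016 2016 = true := by decide +kernel

theorem rel8_0 : chkPts [0, 3, 0, 3] 1 0 2016 = true := by decide +kernel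

theorem rel20_0 : chkPts [4, 5, 4, 5] 1 0 2016 = true := by decide +kernel

theorem rel17_0 : chkPts [2, 5, 2, 5] 0 0 2016 = true := by decide +kernel

theorem rel13_0 : chkPts [1, 4, 1, 4] 1 0 2016 = true := by decide +kernel

theorem rel10_0 : chkPts [0, 5, 0, 5] 0 0 2016 = true := by decide +kernel

theorem rel3_1 : chkPts [3, 3] 1 2016 2016 = true := by decide +kernel

theorem rel1_1 : chkPts [1, 1] 0 2016 2016 = true := by decide +kernel

theorem rel24_1 : chkPts [] 0 2016 2016 = true := by decide +kernel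

theorem rel24_0 : chkPts [] 0 0 2016 = true := by decide +kernel

end Cfsg.Agent.G2Four
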