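import Cfsg.Agent.Lib.G2Four.CoverChk

/-! Generated: kernel checks on the double cover. -/

set_option autoImplicit false
set_option maxRecDepth 100000

namespace Cfsg.Agent.G2Four

theorem uv_1 : chkPts (cvU ++ cvV ++ (cvU ++ cvV)) 1 2016 2016 = true := by decide +kernel

theorem vv_1 : chkPts (cvV ++ cvV) 1 2016 2016 = true := by decide +kernel

theorem uu_1 : chkPts (cvU ++ cvU) 1 2016 2016 = true := by decide +kernel

theorem rel15_1 : chkPts [2, 3, 2, 3, 2, 3, 2, 3, 2, 3, 2, 3, 2, 3, 2, 3] 0 2016 2016 = true := by decide +kernel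

theorem rel6_1 : chkPts [0, 1, 0, 1, 0, 1, 0, 1, 0, 1] 0 2016 2016 = true := by decide +kernel

theorem rel21_0 : chkPts [0, 3, 2, 3, 2, 3, 2, 3, 2] 0 0 2016 = true := by decide +kernel

theorem rel9_1 : chkPts [0, 4, 0, 4] 1 2016 2016 = true := by decide +kernel

theorem rel8_1 : chkPts [0, 3, 0, 3] 1 2016 2016 = true := by decide +kernel

theorem rel20_1 : chkPts [4, 5, 4, 5] 1 2016 2016 = true := by decide +kernel

theorem rel17_1 : chkPts [2, 5, 2, 5] 0 2016 2016 = true := by decide +kernel

theorem rel13_1 : chkPts [1, 4, 1, 4] 1 2016 2016 = true := by decide +kernel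

theorem rel10_1 : chkPts [0, 5, 0, 5] 0 2016 2016 = true := by decide +kernel

theorem rel4_0 : chkPts [4, 4] 1 0 2016 = true := by decide +kernel

theorem rel2_0 : chkPts [2, 2] 0 0 2016 = true := by decide +kernel

theorem rel0_0 : chkPts [0, 0] 0 0 2016 = true := by decide +kernel

end Cfsg.Agent.G2Four
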