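import Cfsg.Agent.Lib.G2Four.CoverChk0
import Cfsg.Agent.Lib.G2Four.CoverChk1
import Cfsg.Agent.Lib.G2Four.CoverChk2
import Cfsg.Agent.Lib.G2Four.CoverChk3

/-!
# The relators act as signs
-/

set_option autoImplicit false
set_option maxRecDepth 100000

namespace Cfsg.Agent.G2Four

theorem rels_ok : ∀ r ∈ cvRels, OkWord r.1 r.2 := by
  intro r hr
  simp only [cvRels, List.mem_cons, List.not_mem_nil, or_false] at hr
  rcases hr with rfl | rfl | rfl | rfl | rfl | rfl | rfl | rfl | rfl | rfl | rfl | rfl | rfl | rfl | rfl | rfl | rfl | rfl | rfl | rfl | rfl | rfl | rfl | rfl | rfl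
  · exact okWord_of_halves (by decide +kernel) rel0_0 rel0_1
  · exact okWord_of_halves (by decide +kernel) rel1_0 rel1_1
  · exact okWord_of_halves (by decide +kernel) rel2_0 rel2_1
  · exact okWord_of_halves (by decide +kernel) rel3_0 rel3_1
  · exact okWord_of_halves (by decide +kernel) rel4_0 rel4_1
  · exact okWord_of_halves (by decide +kernel) rel5_0 rel5_1
  · exact okWord_of_halves (by decide +kernel) rel6_0 rel6_1
  · exact okWord_of_halves (by decide +kernel) rel7_0 rel7_1
  · exact okWord_of_halves (by decide +kernel) rel8_0 rel8_1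
  · exact okWord_of_halves (by decide +kernel) rel9_0 rel9_1
  · exact okWord_of_halves (by decide +kernel) rel10_0 rel10_1
  · exact okWord_of_halves (by decide +kernel) rel11_0 rel11_1
  · exact okWord_of_halves (by decide +kernel) rel12_0 rel12_1
  · exact okWord_of_halves (by decide +kernel) rel13_0 rel13_1
  · exact okWord_of_halves (by decide +kernel) rel14_0 rel14_1
  · exact okWord_of_halves (by decide +kernel) rel15_0 rel15_1
  · exact okWord_of_halves (by decide +kernel) rel16_0 rel16_1
  · exact okWord_of_halves (by decide +kernel) rel17_0 rel17_1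
  · exact okWord_of_halves (by decide +kernel) rel18_0 rel18_1
  · exact okWord_of_halves (by decide +kernel) rel19_0 rel19_1
  · exact okWord_of_halves (by decide +kernel) rel20_0 rel20_1
  · exact okWord_of_halves (by decide +kernel) rel21_0 rel21_1
  · exact okWord_of_halves (by decide +kernel) rel22_0 rel22_1
  · exact okWord_of_halves (by decide +kernel) rel23_0 rel23_1
  · exact okWord_of_halves (by decide +kernel) rel24_0 rel24_1

theorem uu_ok : OkWord (cvU ++ cvU) 1 := okWord_of_halves (by decide +kernel) uu_0 uu_1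

theorem vv_ok : OkWord (cvV ++ cvV) 1 := okWord_of_halves (by decide +kernel) vv_0 vv_1

theorem uv_ok : OkWord (cvU ++ cvV ++ (cvU ++ cvV)) 1 :=
  okWord_of_halves (by decide +kernel) uv_0 uv_1

theorem inv_ok {g : ℕ} (hg : g < 6) : chkInv g = true := by
  interval_cases g
  exacts [List.all_eq_true.1 inv_ok0 0 (by simp), List.all_eq_true.1 inv_ok0 1 (by simp),
    List.all_eq_true.1 inv_ok0 2 (by simp), List.all_eq_true.1 inv_ok1 3 (by simp),
    List.all_eq_true.1 inv_ok1 4 (by simp), List.all_eq_true.1 inv_ok1 5 (by simp)]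

end Cfsg.Agent.G2Four
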