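import Cfsg.Agent.Lib.G2Four.SuzSub
import Cfsg.Agent.Lib.Enum.G2FourBCover

/-!
# A central extension of `G₂(4)` has the six relations up to one central involution
-/

set_option autoImplicit false
set_option maxRecDepth 10000

namespace Cfsg.Agent.G2Four

open Cfsg.Agent.Enum

universe u v

section General

variable {E : Type u} [Group E] {G : Type v} [Group G] {σ : E →* G}
  (hker : σ.ker ≤ Subgroup.center E)
include hker

theorem cen {z : E} (h : σ z = 1) (w : E) : z * w = w * z :=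
  (Subgroup.mem_center_iff.1 (hker h) w).symm

theorem mem_cen {z : E} (h : σ z = 1) : z ∈ Subgroup.center E := hker h

theorem conj_congr {w w' x : E} (h : σ w = σ w') : w * x * w⁻¹ = w' * x * w'⁻¹ := by
  have hz : σ (w * w'⁻¹) = 1 := by rw [map_mul, map_inv, h, mul_inv_cancel]
  have e := cen hker hz (w' * x * w'⁻¹)
  calc w * x * w⁻¹ = w * w'⁻¹ * (w' * x * w'⁻¹) * (w * w'⁻¹)⁻¹ := by group
    _ = w' * x * w'⁻¹ := by rw [e]; group

theorem sq_conj {w x : E} (h : σ (x * x) = 1) : w * x * w⁻¹ * (w * x * w⁻¹) = x * x := by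
  calc w * x * w⁻¹ * (w * x * w⁻¹) = w * (x * x) * w⁻¹ := by group
    _ = x * x := by rw [← cen hker h w]; group

theorem exists_scalar {x T : E} (hx : σ (x * x) = 1) (hc : σ T * σ x = σ x * σ T) :
    ∃ z : E, σ z = 1 ∧ T * x * T⁻¹ = z * x ∧ z * z = 1 := by
  refine ⟨T * x * T⁻¹ * x⁻¹, ?_, by group, ?_⟩
  · rw [map_mul, map_mul, map_mul, map_inv, map_inv, hc]; group
  · set z := T * x * T⁻¹ * x⁻¹ with hzdef
    have hz : σ z = 1 := by
      rw [hzdef, map_mul, map_mul, map_mul, map_inv, map_inv, hc]; group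
    have e : T * x * T⁻¹ = z * x := by rw [hzdef]; group
    have e2 : z * z * (x * x) = x * x := by
      calc z * z * (x * x) = z * (z * x) * x := by simp only [mul_assoc]
        _ = z * (x * z) * x := by rw [cen hker hz x]
        _ = z * x * (z * x) := by simp only [mul_assoc]
        _ = T * x * T⁻¹ * (T * x * T⁻¹) := by rw [e]
        _ = x * x := sq_conj hker hx
    exact mul_eq_right.1 e2

/-- An element of order three over a commuting involution commutes with it. -/
theorem comm_cube {x T : E} (hx : σ (x * x) = 1) (hT : σ (T * T * T) = 1)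
    (hc : σ T * σ x = σ x * σ T) : Commute T x := by
  obtain ⟨z, hz, e, hzz⟩ := exists_scalar hker hx hc
  have hzT := cen hker hz
  have e3 : T * T * T * x * (T * T * T)⁻¹ = z * z * z * x := by
    have h1 : T * T * T * x * (T * T * T)⁻¹ = T * (T * (T * x * T⁻¹) * T⁻¹) * T⁻¹ := by group
    rw [h1, e, show T * (z * x) * T⁻¹ = z * (T * x * T⁻¹) by rw [← mul_assoc, ← hzT]; group, e,
      show T * (z * (z * x)) * T⁻¹ = z * z * (T * x * T⁻¹) by
        rw [show T * (z * (z * x)) = T * z * (z * x) by group, ← hzT,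
          show z * T * (z * x) = z * (T * z) * x by group, ← hzT]; group, e]
    group
  rw [cen hker hT x, mul_assoc, mul_inv_cancel, mul_one, hzz, one_mul] at e3
  have hz1 : z = 1 := by
    exact mul_eq_right.1 e3.symm
  rw [hz1, one_mul] at e
  exact mul_inv_eq_iff_eq_mul.1 e

/-- Commuting lifts stay commuting under conjugation by a lift of a centralising element. -/
theorem conj_comm {x y y' w : E} (hx : σ (x * x) = 1) (h : Commute y x)
    (hw : σ w * σ x = σ x * σ w) (hy' : σ y' = σ (w * y * w⁻¹)) : Commute y' x := by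
  obtain ⟨z, hz, e, -⟩ := exists_scalar hker hx hw
  have h1 : Commute (w * y * w⁻¹) (z * x) := by
    rw [← e]
    show w * y * w⁻¹ * (w * x * w⁻¹) = w * x * w⁻¹ * (w * y * w⁻¹)
    calc w * y * w⁻¹ * (w * x * w⁻¹) = w * (y * x) * w⁻¹ := by group
      _ = w * (x * y) * w⁻¹ := by rw [h.eq]
      _ = _ := by group
  have h2 : Commute (w * y * w⁻¹) x := by
    show _ = _
    have := h1.eq
    rw [← mul_assoc, ← cen hker hz, mul_assoc z x, mul_assoc z] at this
    exact mul_left_cancel this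
  have h3 : σ (y' * (w * y * w⁻¹)⁻¹) = 1 := by rw [map_mul, map_inv, hy', mul_inv_cancel]
  have h4 : Commute (y' * (w * y * w⁻¹)⁻¹) x := cen hker h3 x
  have h5 := h4.mul_left h2
  rwa [inv_mul_cancel_right] at h5

/-- The commutator of two lifts over a four-group, from a triangle. -/
theorem triangle {T b : E} (hb : σ (b * b) = 1) (hT : σ (T * T * T) = 1)
    (hTb : σ (T * b * (T * b) * (T * b)) = 1) :
    ∀ ρ : E, ρ * (T * T * T) = T * b * (T * b) * (T * b) →
      ρ * ρ * (b * b * (b * b) * (b * b))⁻¹ * (ρ * ρ * (b * b * (b * b) * (b * b))⁻¹) = 1 := by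
  intro ρ hρ
  have hρ1 : σ ρ = 1 := by
    have := congrArg σ hρ
    rwa [map_mul, hT, hTb, mul_one] at this
  set p := T * b * T⁻¹
  set r := T * T * b * (T * T)⁻¹ with hr
  have hpp : p * p = b * b := sq_conj hker hb
  have hrr : r * r = b * b := sq_conj hker hb
  have hprb : p * (r * b) = ρ := by
    refine mul_right_cancel (b := T * T * T) ?_
    rw [hρ, mul_assoc p, mul_assoc r, ← cen hker hT b, hr]
    simp only [p]
    group
  have hrb : r * b * (r * b) = ρ * ρ * (b * b)⁻¹ := by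
    have e : r * b = p⁻¹ * ρ := by rw [← hprb]; group
    rw [e]
    calc p⁻¹ * ρ * (p⁻¹ * ρ) = p⁻¹ * (ρ * p⁻¹) * ρ := by group
      _ = p⁻¹ * p⁻¹ * (ρ * ρ) := by rw [cen hker hρ1]; group
      _ = (b * b)⁻¹ * (ρ * ρ) := by rw [← hpp]; group
      _ = ρ * ρ * (b * b)⁻¹ := by
        rw [← cen hker (show σ (ρ * ρ) = 1 by rw [map_mul, hρ1, one_mul])]
  set ζ := ρ * ρ * (b * b * (b * b) * (b * b))⁻¹
  have hb1 : σ b * σ b = 1 := by rw [← map_mul]; exact hb
  have hζ : σ ζ = 1 := by simp only [ζ, map_mul, map_inv, hρ1, hb1, one_mul, inv_one]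
  have e : r * b * r⁻¹ = ζ * b := by
    calc r * b * r⁻¹ = r * b * (r * b) * b⁻¹ * (r * r)⁻¹ := by group
      _ = ρ * ρ * (b * b)⁻¹ * b⁻¹ * (b * b)⁻¹ := by rw [hrb, hrr]
      _ = ζ * b := by simp only [ζ]; group
  have e2 : r * b * r⁻¹ * (r * b * r⁻¹) = b * b := sq_conj hker hb
  rw [e, show ζ * b * (ζ * b) = ζ * (b * ζ) * b by group, ← cen hker hζ,
    show ζ * (ζ * b) * b = ζ * ζ * (b * b) by group] at e2
  exact mul_eq_right.1 e2

end General

section Main

variable {F : Type v} [Field F] [CharP F 2] {ω : F} (hω : ω ^ 2 + ω + 1 = 0)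
variable {E : Type u} [Group E] {σ : E →* PG F}

include hω in
theorem rel_of_code (w w' : List ℕ) (h : veq (wcode gcode w) (wcode gcode w') = true) :
    (w.map (hgen ω)).prod = (w'.map (hgen ω)).prod := eq_of_mpart (by
  rw [mpart_prod ω hω _ gcode w fun x _ => mpart_hgen ω hω x,
    mpart_prod ω hω _ gcode w' fun x _ => mpart_hgen ω hω x, veq_eq h])

include hω in
theorem hgen_inv (i : ℕ) : (hgen ω i)⁻¹ = hgen ω i :=
  inv_eq_of_mul_eq_one_right ((holding ω hω).invol i)

variable (σ ω) in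
/-- Lifts of the six generators with exact braid relations. -/
structure Lifts where
  a : E
  b : E
  c : E
  d : E
  e : E
  f : E
  σa : σ a = hgen ω 0
  σb : σ b = hgen ω 1
  σc : σ c = hgen ω 2
  σd : σ d = hgen ω 3
  σe : σ e = hgen ω 4
  σf : σ f = hgen ω 5
  ab : b * a * b * a * b = a * b * a * b * a
  bc : c * b * c = b * c * b
  bf : f * b * f = b * f * b
  de : e * d * e = d * e * d

variable (hker : σ.ker ≤ Subgroup.center E)
include hω hker

theorem exists_lifts (hσ : Function.Surjective σ) : Nonempty (Lifts ω σ) := by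
  choose L hL using fun i : ℕ => hσ (hgen ω i)
  have braid3 : ∀ x y : E, ∀ i j : ℕ, σ x = hgen ω i → σ y = hgen ω j →
      veq (wcode gcode [i, j, i, j, i]) (wcode gcode [j]) = true →
      σ (x * y * x * (x * y)⁻¹) = hgen ω j ∧
      (x * y * x * (x * y)⁻¹) * x * (x * y * x * (x * y)⁻¹) = x * (x * y * x * (x * y)⁻¹) * x := by
    intro x y i j hx hy h
    set y' := x * y * x * (x * y)⁻¹
    have h1 : σ y' = hgen ω j := by
      have e := rel_of_code hω [i, j, i, j, i] [j] h
      simpa [y', hx, hy, hgen_inv hω, mul_assoc] using e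
    refine ⟨h1, ?_⟩
    have e : y' = x * y' * x * (x * y')⁻¹ :=
      conj_congr hker (w := x * y) (w' := x * y') (x := x) (by rw [map_mul, map_mul, h1, hy])
    calc y' * x * y' = y' * (x * y') := by rw [mul_assoc]
      _ = x * y' * x * (x * y')⁻¹ * (x * y') := by rw [← e]
      _ = x * y' * x := by rw [inv_mul_cancel_right]
  set a := L 0
  set w := a * L 1 * a * L 1 with hwdef
  set b := w * a * w⁻¹ with hbdef
  have hb : σ b = hgen ω 1 := by
    have e := rel_of_code hω [0, 1, 0, 1, 0, 1, 0, 1, 0] [1] (by decide +kernel)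
    simpa [hbdef, hwdef, a, hL, hgen_inv hω, mul_assoc] using e
  have hab : b * a * b * a * b = a * b * a * b * a := by
    have e : b = a * b * a * b * a * (a * b * a * b)⁻¹ :=
      conj_congr hker (w := w) (w' := a * b * a * b) (x := a) (by
        simp only [hwdef, map_mul, hb, hL])
    calc b * a * b * a * b = b * (a * b * a * b) := by group
      _ = a * b * a * b * a * (a * b * a * b)⁻¹ * (a * b * a * b) := by rw [← e]
      _ = a * b * a * b * a := by rw [inv_mul_cancel_right]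
  obtain ⟨hc, hbc⟩ := braid3 b (L 2) 1 2 hb (hL 2) (by decide +kernel)
  obtain ⟨hf, hbf⟩ := braid3 b (L 5) 1 5 hb (hL 5) (by decide +kernel)
  obtain ⟨he, hde⟩ := braid3 (L 3) (L 4) 3 4 (hL 3) (hL 4) (by decide +kernel)
  exact ⟨⟨a, b, _, L 3, _, _, hL 0, hb, hc, hL 3, he, hf, hab, hbc, hbf, hde⟩⟩

namespace Lifts

variable (L : Lifts ω σ)

/-- The common value of the squares of the lifts of `a, b, c, f`. -/
def s : E := L.a * L.a

/-- The square of the lift of `d`. -/
def t : E := L.d * L.d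

/-- The value of the relator tying `a` to `(dc)^4`. -/
def k : E := L.a * (L.d * L.c) ^ 4

/-- The element of order three. -/
def X : E := (L.b * L.c * L.d * L.c * L.d) ^ 5

/-- The product of order three. -/
def T : E := L.X * L.e

/-- The cube of `T`. -/
def k3 : E := L.T * L.T * L.T

theorem σs : σ L.s = 1 := by rw [s, map_mul, L.σa]; exact (holding ω hω).invol 0

theorem σt : σ L.t = 1 := by rw [t, map_mul, L.σd]; exact (holding ω hω).invol 3

theorem σk : σ L.k = 1 := by
  have e := rel_of_code hω [0, 3, 2, 3, 2, 3, 2, 3, 2] [] (by decide +kernel)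
  simpa [k, L.σa, L.σc, L.σd, pow_succ, mul_assoc] using e

theorem σk3 : σ L.k3 = 1 := by
  have e := rel_of_code hω ([1, 2, 3, 2, 3, 1, 2, 3, 2, 3, 1, 2, 3, 2, 3, 1, 2, 3, 2, 3, 1, 2, 3, 2, 3, 4] ++
    [1, 2, 3, 2, 3, 1, 2, 3, 2, 3, 1, 2, 3, 2, 3, 1, 2, 3, 2, 3, 1, 2, 3, 2, 3, 4] ++
    [1, 2, 3, 2, 3, 1, 2, 3, 2, 3, 1, 2, 3, 2, 3, 1, 2, 3, 2, 3, 1, 2, 3, 2, 3, 4]) [] (by decide +kernel)
  simpa [k3, T, X, L.σb, L.σc, L.σd, L.σe, pow_succ, mul_assoc] using e

theorem σX : σ (L.X * L.X * L.X) = 1 := by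
  have e := rel_of_code hω ([1, 2, 3, 2, 3, 1, 2, 3, 2, 3, 1, 2, 3, 2, 3, 1, 2, 3, 2, 3, 1, 2, 3, 2, 3] ++
    [1, 2, 3, 2, 3, 1, 2, 3, 2, 3, 1, 2, 3, 2, 3, 1, 2, 3, 2, 3, 1, 2, 3, 2, 3] ++
    [1, 2, 3, 2, 3, 1, 2, 3, 2, 3, 1, 2, 3, 2, 3, 1, 2, 3, 2, 3, 1, 2, 3, 2, 3]) [] (by decide +kernel)
  simpa [X, L.σb, L.σc, L.σd, pow_succ, mul_assoc] using e

theorem sq_of_braid3 {x y : E} (h : y * x * y = x * y * x) (hx : σ (x * x) = 1) : y * y = x * x := by
  have e : y = x * y * x * (x * y)⁻¹ := by rw [← h, mul_inv_rev]; group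
  rw [e]
  exact sq_conj hker hx

theorem bb : L.b * L.b = L.s := by
  have e : L.b = L.a * L.b * L.a * L.b * L.a * (L.a * L.b * L.a * L.b)⁻¹ := by
    rw [← L.ab, mul_inv_rev]; group
  rw [e]
  exact sq_conj hker (L.σs hω hker)

theorem cc : L.c * L.c = L.s := by
  rw [sq_of_braid3 hω hker L.bc (by rw [L.bb hω hker]; exact L.σs hω hker), L.bb hω hker]

theorem ff : L.f * L.f = L.s := by
  rw [sq_of_braid3 hω hker L.bf (by rw [L.bb hω hker]; exact L.σs hω hker), L.bb hω hker]

theorem ee : L.e * L.e = L.t := sq_of_braid3 hω hker L.de (L.σt hω hker)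

theorem sq0 {x : E} {i : ℕ} (hx : σ x = hgen ω i) : σ (x * x) = 1 := by
  rw [map_mul, hx]; exact (holding ω hω).invol i

theorem comm_e {x : E} {i : ℕ} (hx : σ x = hgen ω i)
    (h1 : veq (wcode gcode ([1, 2, 3, 2, 3, 1, 2, 3, 2, 3, 1, 2, 3, 2, 3, 1, 2, 3, 2, 3, 1, 2, 3, 2, 3] ++ [i]))
      (wcode gcode (i :: [1, 2, 3, 2, 3, 1, 2, 3, 2, 3, 1, 2, 3, 2, 3, 1, 2, 3, 2, 3, 1, 2, 3, 2, 3])) = true)
    (h2 : veq (wcode gcode [4, i]) (wcode gcode [i, 4]) = true) :
    Commute L.X x ∧ Commute L.e x := by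
  have eX : σ L.X * σ x = σ x * σ L.X := by
    have e := rel_of_code hω _ _ h1
    simpa [X, L.σb, L.σc, L.σd, hx, pow_succ, mul_assoc] using e
  have ee' : σ L.e * σ x = σ x * σ L.e := by
    have e := rel_of_code hω _ _ h2
    simpa [L.σe, hx] using e
  have cX := comm_cube hker (sq0 hω hker hx) (L.σX hω hker) eX
  have eT : σ L.T * σ x = σ x * σ L.T := by
    rw [T, map_mul, mul_assoc, ee', ← mul_assoc, eX, mul_assoc]
  have cT : Commute L.T x := comm_cube hker (sq0 hω hker hx) (L.σk3 hω hker) eT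
  refine ⟨cX, ?_⟩
  have := cX.inv_left.mul_left cT
  rwa [T, inv_mul_cancel_left] at this

theorem ae : Commute L.X L.a ∧ Commute L.e L.a :=
  L.comm_e hω hker L.σa (by decide +kernel) (by decide +kernel)

theorem be : Commute L.X L.b ∧ Commute L.e L.b :=
  L.comm_e hω hker L.σb (by decide +kernel) (by decide +kernel)

theorem ce : Commute L.X L.c ∧ Commute L.e L.c :=
  L.comm_e hω hker L.σc (by decide +kernel) (by decide +kernel)

theorem fe : Commute L.X L.f ∧ Commute L.e L.f :=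
  L.comm_e hω hker L.σf (by decide +kernel) (by decide +kernel)

theorem comm_d {x : E} {i : ℕ} (hx : σ x = hgen ω i) (h : Commute L.e x)
    (h1 : veq (wcode gcode [4, 3, i]) (wcode gcode [i, 4, 3]) = true) : Commute L.d x := by
  refine conj_comm hker (w := L.e * L.d) (y := L.e) (sq0 hω hker hx) h ?_ ?_
  · have e := rel_of_code hω _ _ h1
    simpa [L.σe, L.σd, hx, mul_assoc] using e
  · have e : L.d = L.e * L.d * L.e * (L.e * L.d)⁻¹ := by rw [L.de, mul_inv_rev]; group
    exact congrArg σ e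

theorem ad : Commute L.d L.a := L.comm_d hω hker L.σa (L.ae hω hker).2 (by decide +kernel)

theorem bd : Commute L.d L.b := L.comm_d hω hker L.σb (L.be hω hker).2 (by decide +kernel)

theorem fd : Commute L.d L.f := L.comm_d hω hker L.σf (L.fe hω hker).2 (by decide +kernel)

theorem dc_conj_d : L.d * (L.d * L.c) * L.d⁻¹ = L.c * L.d := by
  have h := cen hker (L.σt hω hker) L.c
  simp only [t] at h
  calc L.d * (L.d * L.c) * L.d⁻¹ = L.d * L.d * L.c * L.d⁻¹ := by group
    _ = L.c * (L.d * L.d) * L.d⁻¹ := by rw [h]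
    _ = L.c * L.d := by group

theorem pow_dc : (L.c * L.d) ^ 4 = (L.d * L.c) ^ 4 ∧ Commute L.c L.a := by
  have hk := cen hker (L.σk hω hker)
  have e : (L.d * L.c) ^ 4 = L.a⁻¹ * L.k := by rw [k, inv_mul_cancel_left]
  have hd : Commute L.d ((L.d * L.c) ^ 4) := by
    rw [e]
    exact ((L.ad hω hker).inv_right).mul_right (hk L.d).symm
  have h1 : (L.c * L.d) ^ 4 = (L.d * L.c) ^ 4 := by
    rw [← L.dc_conj_d hω hker, conj_pow, hd.eq, mul_inv_cancel_right]
  refine ⟨h1, ?_⟩
  have hc : Commute L.c ((L.d * L.c) ^ 4) := by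
    show _ = _
    have h2 := conj_pow (a := L.c) (b := L.d * L.c) (i := 4)
    rw [show L.c * (L.d * L.c) * L.c⁻¹ = L.c * L.d by group, h1] at h2
    exact mul_inv_eq_iff_eq_mul.1 h2.symm
  have ea : L.a = L.k * ((L.d * L.c) ^ 4)⁻¹ := by rw [k, mul_inv_cancel_right]
  rw [ea]
  exact Commute.mul_right (hk L.c).symm hc.inv_right

theorem kk : L.k * L.k = L.s * (L.s * L.t) ^ 4 := by
  obtain ⟨h1, hca⟩ := L.pow_dc hω hker
  have hk := cen hker (L.σk hω hker)
  have hst : σ (L.s * L.t) = 1 := by rw [map_mul, L.σs hω hker, L.σt hω hker, one_mul]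
  have e0 : (L.c * L.d) * (L.d * L.c) = L.s * L.t := by
    calc L.c * L.d * (L.d * L.c) = L.c * L.t * L.c := by rw [t]; group
      _ = L.t * (L.c * L.c) := by rw [← cen hker (L.σt hω hker) L.c]; group
      _ = L.s * L.t := by rw [L.cc hω hker, cen hker (L.σt hω hker)]
  have hcomm : Commute (L.c * L.d) (L.d * L.c) := by
    show _ = _
    have e1 : L.d * L.c = (L.c * L.d)⁻¹ * (L.s * L.t) := by rw [← e0]; group
    rw [e0, e1, mul_assoc, cen hker hst, inv_mul_cancel_left]
  have e2 : (L.s * L.t) ^ 4 = (L.d * L.c) ^ 4 * (L.d * L.c) ^ 4 := by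
    rw [← e0, hcomm.mul_pow, h1]
  rw [e2]
  have hX : Commute L.a ((L.d * L.c) ^ 4) := by
    have e : (L.d * L.c) ^ 4 = L.a⁻¹ * L.k := by rw [k, inv_mul_cancel_left]
    rw [e]
    exact (Commute.refl L.a).inv_right.mul_right (hk L.a).symm
  show L.a * (L.d * L.c) ^ 4 * (L.a * (L.d * L.c) ^ 4) = _
  rw [s, show L.a * (L.d * L.c) ^ 4 * (L.a * (L.d * L.c) ^ 4) =
    L.a * ((L.d * L.c) ^ 4 * L.a) * (L.d * L.c) ^ 4 by group, ← hX.eq]
  group

theorem cf : Commute L.f L.c := by
  have hcc : σ (L.c * L.c) = 1 := by rw [L.cc hω hker]; exact L.σs hω hker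
  obtain ⟨z, hz, e, hzz⟩ := exists_scalar hker (x := L.c) (T := L.f) hcc (by
    have h := rel_of_code hω [5, 2] [2, 5] (by decide +kernel)
    simpa [L.σc, L.σf] using h)
  have hzc := cen hker hz
  set φ := (MulAut.conj L.f : MulAut E)
  have hc : φ L.c = z * L.c := e
  have fix' : ∀ {x : E}, Commute L.f x → φ x = x := fun {x} h => by
    show L.f * x * L.f⁻¹ = x
    rw [h.eq, mul_inv_cancel_right]
  have hd := fix' (L.fd hω hker).symm
  have he := fix' (L.fe hω hker).2.symm
  have hX := fix' (L.fe hω hker).1.symm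
  set W := L.X * L.c * L.d * L.e * L.X * L.c * L.d * L.e * L.c * L.d with hW
  set V := L.e * L.X * L.d * L.e * L.X * L.c * L.d * L.e * L.X * L.c with hV
  have hWV : σ (W * V⁻¹) = 1 := by
    have h := rel_of_code hω [1, 2, 3, 2, 3, 1, 2, 3, 2, 3, 1, 2, 3, 2, 3, 1, 2, 3, 2, 3, 1, 2, 3, 2, 3, 2, 3, 4, 1, 2, 3, 2, 3, 1, 2, 3, 2, 3, 1, 2, 3, 2, 3, 1, 2, 3, 2, 3, 1, 2, 3, 2, 3, 2, 3, 4, 2, 3] [4, 1, 2, 3, 2, 3, 1, 2, 3, 2, 3, 1, 2, 3, 2, 3, 1, 2, 3, 2, 3, 1, 2, 3, 2, 3, 3, 4, 1, 2, 3, 2, 3, 1, 2, 3, 2, 3, 1, 2, 3, 2, 3, 1, 2, 3, 2, 3, 1, 2, 3, 2, 3, 2, 3, 4, 1, 2, 3, 2, 3, 1, 2, 3, 2, 3, 1, 2, 3, 2, 3, 1, 2, 3, 2, 3, 1, 2, 3, 2, 3, 2] (by decide +kernel)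
    rw [map_mul, map_inv, mul_inv_eq_one]
    simpa [hW, hV, X, L.σb, L.σc, L.σd, L.σe, pow_succ, mul_assoc] using h
  have hq : φ (W * V⁻¹) = W * V⁻¹ := fix' (cen hker hWV L.f).symm
  have hl : ∀ x r : E, x * (z * r) = z * (x * r) := fun x r => by rw [← mul_assoc, ← hzc x, mul_assoc]
  have h1 : φ W = z * z * z * W := by
    rw [hW]
    simp only [map_mul, hc, hd, he, hX, mul_assoc, hl L.X, hl L.d, hl L.e, hl L.c]
  have h2 : φ V = z * z * V := by
    rw [hV]
    simp only [map_mul, hc, hd, he, hX, mul_assoc]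
    simp only [hl L.X, hl L.d, hl L.e, hl L.c, ← hzc L.X, ← hzc L.d, ← hzc L.e, ← hzc L.c, mul_assoc]
  rw [map_mul, map_inv, h1, h2, hzz, one_mul, one_mul] at hq
  have hz1 : z = 1 := mul_eq_right.1 (mul_right_cancel hq)
  rw [hz1, one_mul] at e
  exact mul_inv_eq_iff_eq_mul.1 e

theorem af : Commute L.f L.a := by
  have e : L.a = L.k * ((L.d * L.c) ^ 4)⁻¹ := by rw [k, mul_inv_cancel_right]
  rw [e]
  exact Commute.mul_right (cen hker (L.σk hω hker) L.f).symm
    (((L.fd hω hker).symm.mul_right (L.cf hω hker)).pow_right 4).inv_right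

theorem ac : Commute L.c L.a := (L.pow_dc hω hker).2

/-- Scale the lifts by central elements. -/
noncomputable def scale (u v : E) (hu : σ u = 1) (hv : σ v = 1) : Lifts ω σ where
  a := L.a * u
  b := L.b * u
  c := L.c * u
  d := L.d * v
  e := L.e * v
  f := L.f * u
  σa := by rw [map_mul, L.σa, hu, mul_one]
  σb := by rw [map_mul, L.σb, hu, mul_one]
  σc := by rw [map_mul, L.σc, hu, mul_one]
  σd := by rw [map_mul, L.σd, hv, mul_one]
  σe := by rw [map_mul, L.σe, hv, mul_one]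
  σf := by rw [map_mul, L.σf, hu, mul_one]
  ab := by
    have hl : ∀ x r : E, u * (x * r) = x * (u * r) := fun x r => by
      rw [← mul_assoc, cen hker hu x, mul_assoc]
    have h := congrArg (· * (u * (u * (u * (u * u))))) L.ab
    simp only [mul_assoc] at h
    simp only [mul_assoc, hl L.a, hl L.b, cen hker hu L.a, cen hker hu L.b]
    exact h
  bc := by
    have hl : ∀ x r : E, u * (x * r) = x * (u * r) := fun x r => by
      rw [← mul_assoc, cen hker hu x, mul_assoc]
    have h := congrArg (· * (u * (u * u))) L.bc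
    simp only [mul_assoc] at h
    simp only [mul_assoc, hl L.b, hl L.c, cen hker hu L.b, cen hker hu L.c]
    exact h
  bf := by
    have hl : ∀ x r : E, u * (x * r) = x * (u * r) := fun x r => by
      rw [← mul_assoc, cen hker hu x, mul_assoc]
    have h := congrArg (· * (u * (u * u))) L.bf
    simp only [mul_assoc] at h
    simp only [mul_assoc, hl L.b, hl L.f, cen hker hu L.b, cen hker hu L.f]
    exact h
  de := by
    have hl : ∀ x r : E, v * (x * r) = x * (v * r) := fun x r => by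
      rw [← mul_assoc, cen hker hv x, mul_assoc]
    have h := congrArg (· * (v * (v * v))) L.de
    simp only [mul_assoc] at h
    simp only [mul_assoc, hl L.d, hl L.e, cen hker hv L.d, cen hker hv L.e]
    exact h

theorem scale_s (u v : E) (hu : σ u = 1) (hv : σ v = 1) :
    (L.scale hker u v hu hv).s = L.s * (u * u) := by
  show L.a * u * (L.a * u) = L.a * L.a * (u * u)
  exact Commute.mul_mul_mul_comm (cen hker hu L.a) _ _

theorem scale_t (u v : E) (hu : σ u = 1) (hv : σ v = 1) :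
    (L.scale hker u v hu hv).t = L.t * (v * v) := by
  show L.d * v * (L.d * v) = L.d * L.d * (v * v)
  exact Commute.mul_mul_mul_comm (cen hker hv L.d) _ _

theorem mul_cen_pow {x z : E} (hz : σ z = 1) (n : ℕ) : (x * z) ^ n = x ^ n * z ^ n :=
  Commute.mul_pow (cen hker hz x).symm n

theorem scale_k (u v : E) (hu : σ u = 1) (hv : σ v = 1) :
    (L.scale hker u v hu hv).k = L.k * (u * (v * u) ^ 4) := by
  show L.a * u * (L.d * v * (L.c * u)) ^ 4 = _
  rw [Commute.mul_mul_mul_comm (cen hker hv L.c), mul_cen_pow hω hker (by rw [map_mul, hu, hv, one_mul]),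
    Commute.mul_mul_mul_comm (cen hker hu ((L.d * L.c) ^ 4))]
  rfl

theorem scale_k3 (v : E) (hv : σ v = 1) :
    (L.scale hker 1 v (map_one σ) hv).k3 = L.k3 * v ^ 33 := by
  have hv10 : σ (v ^ 10) = 1 := by rw [map_pow, hv, one_pow]
  have hY : L.b * L.c * (L.d * v) * L.c * (L.d * v) = L.b * L.c * L.d * L.c * L.d * (v * v) := by
    calc L.b * L.c * (L.d * v) * L.c * (L.d * v) = L.b * L.c * L.d * (v * (L.c * L.d)) * v := by group
      _ = _ := by rw [cen hker hv (L.c * L.d)]; group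
  have hX : (L.scale hker 1 v (map_one σ) hv).X = L.X * v ^ 10 := by
    show (L.b * 1 * (L.c * 1) * (L.d * v) * (L.c * 1) * (L.d * v)) ^ 5 = _
    rw [mul_one, mul_one, hY, mul_cen_pow hω hker (by rw [map_mul, hv, one_mul]), ← pow_two, ← pow_mul]
    rfl
  have hT : (L.scale hker 1 v (map_one σ) hv).T = L.T * v ^ 11 := by
    show (L.scale hker 1 v (map_one σ) hv).X * (L.e * v) = _
    rw [hX, Commute.mul_mul_mul_comm (cen hker hv10 L.e), ← pow_succ]
    rfl
  have e3 : ∀ x : E, x * x * x = x ^ 3 := fun x => by rw [pow_three, mul_assoc]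
  simp only [k3, e3]
  rw [hT, mul_cen_pow hω hker (by rw [map_pow, hv, one_pow]), ← pow_mul]

variable (hs : L.s = 1) (hkt : L.k = L.t * L.t)
include hs

theorem kappa : (L.X * L.X * L.X) ^ 2 = L.t ^ 30 := by
  have hb : L.b * L.b = 1 := (L.bb hω hker).trans hs
  have hc : L.c * L.c = 1 := (L.cc hω hker).trans hs
  have ht := cen hker (L.σt hω hker)
  set Y := L.b * L.c * L.d * L.c * L.d with hY
  have hdb : L.d * L.b = L.b * L.d := (L.bd hω hker).eq
  have h1 : L.d * Y * L.d⁻¹ = L.t * L.t * (L.b * Y⁻¹ * L.b⁻¹) := by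
    have hbi : L.b⁻¹ = L.b := inv_eq_of_mul_eq_one_right hb
    have hci : L.c⁻¹ = L.c := inv_eq_of_mul_eq_one_right hc
    have hdi : L.d⁻¹ = L.t⁻¹ * L.d := by rw [t]; group
    have htl : ∀ x r : E, x * (L.t * r) = L.t * (x * r) := fun x r => by
      rw [← mul_assoc, ← ht x, mul_assoc]
    have hti : ∀ x r : E, x * (L.t⁻¹ * r) = L.t⁻¹ * (x * r) := fun x r => by
      rw [← mul_assoc, ← cen hker (by rw [map_inv, L.σt hω hker, inv_one]) x, mul_assoc]
    have e1 : L.d * Y * L.d⁻¹ = L.b * (L.d * L.c * L.d * L.c) := by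
      rw [hY, show L.d * (L.b * L.c * L.d * L.c * L.d) * L.d⁻¹ = L.d * L.b * (L.c * L.d * L.c) by group, hdb]
      group
    have e2 : L.t * L.t * Y⁻¹ = L.d * L.c * L.d * L.c * L.b := by
      rw [hY, mul_inv_rev, mul_inv_rev, mul_inv_rev, mul_inv_rev, hbi, hci, hdi]
      simp only [mul_assoc, hti L.c, hti L.d, mul_inv_cancel_left]
    rw [e1, ← mul_assoc (L.t * L.t), ← mul_assoc (L.t * L.t),
      cen hker (show σ (L.t * L.t) = 1 by rw [map_mul, L.σt hω hker, one_mul]) L.b, mul_assoc L.b,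
      e2, hbi, mul_assoc L.b _ L.b, mul_assoc _ L.b L.b, hb, mul_one]
  have h5 : L.d * L.X * L.d⁻¹ = (L.t * L.t) ^ 5 * L.X⁻¹ := by
    show L.d * Y ^ 5 * L.d⁻¹ = _
    rw [← conj_pow, h1, Commute.mul_pow (cen hker (by rw [map_mul, L.σt hω hker, one_mul]) _),
      conj_pow, inv_pow]
    show _ * (L.b * L.X⁻¹ * L.b⁻¹) = _
    rw [← (L.be hω hker).1.inv_left.eq, mul_inv_cancel_right]
  have e3 : ∀ x : E, x * x * x = x ^ 3 := fun x => by rw [pow_three, mul_assoc]
  have hκ : σ (L.X ^ 3) = 1 := by rw [← e3]; exact L.σX hω hker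
  have h6 : L.X ^ 3 = (L.t * L.t) ^ 15 * (L.X ^ 3)⁻¹ := by
    calc L.X ^ 3 = L.d * L.X ^ 3 * L.d⁻¹ := by rw [← cen hker hκ L.d, mul_inv_cancel_right]
      _ = (L.d * L.X * L.d⁻¹) ^ 3 := conj_pow.symm
      _ = _ := by
        rw [h5, Commute.mul_pow (cen hker (by rw [map_pow, map_mul, L.σt hω hker, one_mul, one_pow]) _),
          ← pow_mul, inv_pow]
  rw [e3, pow_two]
  nth_rewrite 1 [h6]
  rw [inv_mul_cancel_right, ← pow_two L.t, ← pow_mul]

theorem sq_I (ρ : E) (hρ : ρ * L.k3 = L.t * L.t * L.t * (L.X * L.X * L.X)) :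
    ρ * ρ * (L.t * L.t * L.t)⁻¹ * (ρ * ρ * (L.t * L.t * L.t)⁻¹) = 1 := by
  have ee := L.ee hω hker
  have hT : L.T * L.e = L.t * L.X := by
    rw [T, mul_assoc, ee, cen hker (L.σt hω hker)]
  have hTe3 : L.T * L.e * (L.T * L.e) * (L.T * L.e) = L.t * L.t * L.t * (L.X * L.X * L.X) := by
    have hl : ∀ r : E, L.X * (L.t * r) = L.t * (L.X * r) := fun r => by
      rw [← mul_assoc, ← cen hker (L.σt hω hker) L.X, mul_assoc]
    simp only [hT, mul_assoc, hl]
  have h := triangle hker (T := L.T) (b := L.e) (by rw [ee]; exact L.σt hω hker) (L.σk3 hω hker)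
    (by rw [hTe3, map_mul, map_mul, map_mul, L.σt hω hker, one_mul, one_mul, L.σX hω hker, one_mul]) ρ
    (by rw [hTe3]; exact hρ)
  rwa [ee] at h

theorem k2_sq : (L.a * L.b * L.c * L.f) ^ 5 * (L.a * L.b * L.c * L.f) ^ 5 = 1 := by
  have ha : L.a⁻¹ = L.a := inv_eq_of_mul_eq_one_right hs
  have hb : L.b⁻¹ = L.b := inv_eq_of_mul_eq_one_right ((L.bb hω hker).trans hs)
  have hc : L.c⁻¹ = L.c := inv_eq_of_mul_eq_one_right ((L.cc hω hker).trans hs)
  have hf : L.f⁻¹ = L.f := inv_eq_of_mul_eq_one_right ((L.ff hω hker).trans hs)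
  set P := L.a * L.b * L.c * L.f with hP
  have hP5 : σ (P ^ 5) = 1 := by
    have e := rel_of_code hω [0, 1, 2, 5, 0, 1, 2, 5, 0, 1, 2, 5, 0, 1, 2, 5, 0, 1, 2, 5] []
      (by decide +kernel)
    simpa [hP, L.σa, L.σb, L.σc, L.σf, pow_succ, mul_assoc] using e
  have hh : (L.f * L.c)⁻¹ * L.a * P⁻¹ * ((L.f * L.c)⁻¹ * L.a)⁻¹ = P := by
    rw [hP]
    simp only [mul_inv_rev, inv_inv, ha, hb, hc, hf]
    have e1 : L.a * L.f = L.f * L.a := (L.af hω hker).eq.symm
    have e2 : L.a * L.c = L.c * L.a := (L.ac hω hker).eq.symm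
    have e3 : L.f * L.c = L.c * L.f := (L.cf hω hker).eq
    calc L.c * L.f * L.a * (L.f * (L.c * (L.b * L.a))) * (L.a * (L.f * L.c))
        = L.c * L.f * (L.a * L.f) * L.c * L.b * (L.a * L.a) * L.f * L.c := by group
      _ = L.c * (L.f * L.f) * (L.a * L.c) * L.b * L.f * L.c := by
        rw [e1, show L.a * L.a = 1 from hs]; group
      _ = L.c * L.c * L.a * L.b * (L.f * L.c) := by
        rw [e2, show L.f * L.f = 1 from (L.ff hω hker).trans hs]; group
      _ = L.a * L.b * L.c * L.f := by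
        rw [e3, show L.c * L.c = 1 from (L.cc hω hker).trans hs]; group
  have h := congrArg (· ^ 5) hh
  simp only [conj_pow, inv_pow] at h
  rw [← cen hker (show σ (P ^ 5)⁻¹ = 1 by rw [map_inv, hP5, inv_one]) ((L.f * L.c)⁻¹ * L.a),
    mul_inv_cancel_right] at h
  exact mul_eq_one_iff_eq_inv.2 h.symm

end Lifts

omit hω hker in
theorem norm_one {A : Type*} [CommGroup A] {k s t : A} (h : k * k = s * (s * t) ^ 4) :
    s * ((s ^ 12 * t ^ 10 * (k ^ 5)⁻¹) * (s ^ 12 * t ^ 10 * (k ^ 5)⁻¹)) = 1 ∧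
      k * ((s ^ 12 * t ^ 10 * (k ^ 5)⁻¹) * (1 * (s ^ 12 * t ^ 10 * (k ^ 5)⁻¹)) ^ 4) = t * t := by
  have h' := congrArg Additive.ofMul h
  simp only [ofMul_mul, ofMul_pow] at h'
  refine ⟨Additive.ofMul.injective ?_, Additive.ofMul.injective ?_⟩
  · simp only [ofMul_mul, ofMul_pow, ofMul_inv, ofMul_one]
    linear_combination (norm := module) (-5 : ℤ) • h'
  · simp only [ofMul_mul, ofMul_pow, ofMul_inv, ofMul_one]
    linear_combination (norm := module) (-12 : ℤ) • h'

omit hω hker in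
theorem norm_two {A : Type*} [CommGroup A] {t k3 κ ρ : A} (hκ : κ ^ 2 = t ^ 30)
    (hρ : ρ * k3 = t * t * t * κ) (hI : ρ * ρ * (t * t * t)⁻¹ * (ρ * ρ * (t * t * t)⁻¹) = 1) :
    t * (k3 * (t ^ 17)⁻¹ * (k3 * (t ^ 17)⁻¹)) * (t * (k3 * (t ^ 17)⁻¹ * (k3 * (t ^ 17)⁻¹))) = 1 ∧
    k3 * (k3 * (t ^ 17)⁻¹) ^ 33 = t * (k3 * (t ^ 17)⁻¹ * (k3 * (t ^ 17)⁻¹)) ∧
    t * t * ((k3 * (t ^ 17)⁻¹) * 1) ^ 4 = 1 := by
  have h1 := congrArg Additive.ofMul hκ
  have h2 := congrArg Additive.ofMul hρ
  have h3 := congrArg Additive.ofMul hI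
  simp only [ofMul_mul, ofMul_pow, ofMul_inv, ofMul_one] at h1 h2 h3
  refine ⟨Additive.ofMul.injective ?_, Additive.ofMul.injective ?_, Additive.ofMul.injective ?_⟩
  · simp only [ofMul_mul, ofMul_pow, ofMul_inv, ofMul_one]
    linear_combination (norm := module) (4 : ℤ) • h2 + (2 : ℤ) • h1 + (-1 : ℤ) • h3
  · simp only [ofMul_mul, ofMul_pow, ofMul_inv, ofMul_one]
    linear_combination (norm := module) (32 : ℤ) • h2 + (16 : ℤ) • h1 + (-8 : ℤ) • h3
  · simp only [ofMul_mul, ofMul_pow, ofMul_inv, ofMul_one]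
    linear_combination (norm := module) (4 : ℤ) • h2 + (2 : ℤ) • h1 + (-1 : ℤ) • h3

theorem exists_normal (hσ : Function.Surjective σ) :
    ∃ L : Lifts ω σ, L.s = 1 ∧ L.k = 1 ∧ L.t * L.t = 1 ∧ L.k3 = L.t := by
  obtain ⟨L⟩ := exists_lifts hω hker hσ
  letI : CommGroup ↥(Subgroup.center E) :=
    { (inferInstance : Group ↥(Subgroup.center E)) with
      mul_comm := fun x y => Subtype.ext (Subgroup.mem_center_iff.1 y.2 x) }
  let S : ↥(Subgroup.center E) := ⟨L.s, hker (L.σs hω hker)⟩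
  let T : ↥(Subgroup.center E) := ⟨L.t, hker (L.σt hω hker)⟩
  let K : ↥(Subgroup.center E) := ⟨L.k, hker (L.σk hω hker)⟩
  obtain ⟨e1, e2⟩ := norm_one (k := K) (s := S) (t := T) (Subtype.ext (L.kk hω hker))
  set u : ↥(Subgroup.center E) := S ^ 12 * T ^ 10 * (K ^ 5)⁻¹
  have hu : σ (u : E) = 1 := by simp [u, S, T, K, L.σs hω hker, L.σt hω hker, L.σk hω hker]
  set L1 := L.scale hker u 1 hu (map_one σ)
  have hs : L1.s = 1 := (L.scale_s hω hker _ _ _ _).trans (congrArg Subtype.val e1)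
  have hk : L1.k = L1.t * L1.t := by
    rw [L.scale_t hω hker, L.scale_k hω hker, one_mul, one_mul, mul_one]
    have := congrArg Subtype.val e2
    simpa [S, T, K] using this
  let T1 : ↥(Subgroup.center E) := ⟨L1.t, hker (L1.σt hω hker)⟩
  let K3 : ↥(Subgroup.center E) := ⟨L1.k3, hker (L1.σk3 hω hker)⟩
  let κ : ↥(Subgroup.center E) := ⟨L1.X * L1.X * L1.X, hker (L1.σX hω hker)⟩
  let ρ : ↥(Subgroup.center E) := T1 * T1 * T1 * κ * K3⁻¹
  have hρ : ρ * K3 = T1 * T1 * T1 * κ := inv_mul_cancel_right _ _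
  obtain ⟨f1, f2, f3⟩ := norm_two (t := T1) (k3 := K3) (κ := κ) (ρ := ρ)
    (Subtype.ext (L1.kappa hω hker hs)) hρ
    (Subtype.ext (L1.sq_I hω hker hs (ρ : E) (congrArg Subtype.val hρ)))
  set v : ↥(Subgroup.center E) := K3 * (T1 ^ 17)⁻¹
  have hv : σ (v : E) = 1 := by simp [v, T1, K3, L1.σt hω hker, L1.σk3 hω hker]
  refine ⟨L1.scale hker 1 v (map_one σ) hv, ?_, ?_, ?_, ?_⟩
  · rw [L1.scale_s hω hker, hs, one_mul, one_mul]
  · rw [L1.scale_k hω hker, hk, one_mul]
    exact congrArg Subtype.val f3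
  · rw [L1.scale_t hω hker]
    exact congrArg Subtype.val f1
  · rw [L1.scale_t hω hker, L1.scale_k3 hω hker]
    exact congrArg Subtype.val f2

end Main

theorem step7 {G : Type u} [Group G] {g : ℕ → G} (h : Holding g 7 G2FourB.baseRels) {L L' : List ℕ}
    {t : CoverData} {d : Data} {base : List (List ℕ)} {n : ℕ}
    (hbase : subRelsOK L G2FourB.baseRels base = true)
    (hcov : ∀ {G : Type u} [Group G] {g : ℕ → G}, Holding g n base →
      Subgroup.closure (Set.range g) = ⊤ → Covers g (wordClosure g d.subs) t d)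
    (hn : L.length = n)
    (hL' : d.subs.map (fun w => w.map fun i => L.getD i 0) = L'.map fun x => [x])
    (hlt : d.subs.all (fun w => w.all fun i => Nat.blt i L.length) = true) {m : ℕ}
    (hm : Finite (gensClosure g L') ∧ Nat.card (gensClosure g L') ≤ m) :
    Finite (gensClosure g L) ∧ Nat.card (gensClosure g L) ≤ t.N * m :=
  chain_step (hcov (hn ▸ holding_subGen h.invol h.base L hbase) (subGen_gen L)) hL' hlt hm

/-- Six generators with a central seventh generate a group of order at most that of `G₂(4)`. -/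
theorem card_le_seven {G : Type u} [Group G] {g : ℕ → G} (h : Holding g 7 G2FourB.baseRels)
    (hgen : Subgroup.closure (Set.range g) = ⊤) : Finite G ∧ Nat.card G ≤ 251596800 := by
  have h1 : Finite (gensClosure g [0, 1, 2, 3]) ∧ Nat.card (gensClosure g [0, 1, 2, 3]) ≤ 2160 * 1 :=
    step7 h (by decide +kernel) (fun hh hgen => SuzD.covers hh hgen) rfl (by decide +kernel)
      (by decide +kernel) chain_base
  have h2 : Finite (gensClosure g [0, 1, 2, 3, 4]) ∧
      Nat.card (gensClosure g [0, 1, 2, 3, 4]) ≤ 280 * (2160 * 1) :=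
    step7 h (by decide +kernel) (fun hh hgen => SuzC.covers hh hgen) rfl (by decide +kernel)
      (by decide +kernel) h1
  have h3 : Finite (gensClosure g [0, 1, 2, 3, 4, 5, 6]) ∧
      Nat.card (gensClosure g [0, 1, 2, 3, 4, 5, 6]) ≤ 416 * (280 * (2160 * 1)) :=
    step7 h (by decide +kernel) (fun hh hgen => G2FourB.covers hh hgen) rfl (by decide +kernel)
      (by decide +kernel) h2
  have htop : gensClosure g [0, 1, 2, 3, 4, 5, 6] = ⊤ := by
    rw [eq_top_iff, ← hgen, Subgroup.closure_le]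
    rintro _ ⟨x, rfl⟩
    rcases Nat.lt_or_ge x 7 with hx | hx
    · exact Subgroup.subset_closure ⟨x, by interval_cases x <;> simp, rfl⟩
    · rw [h.junk x hx]; exact one_mem _
  rw [htop, Subgroup.card_top] at h3
  exact ⟨Finite.of_equiv _ Subgroup.topEquiv.toEquiv (h := h3.1), h3.2.trans (by norm_num)⟩

section Bound

variable {F : Type v} [Field F] [Fintype F] [CharP F 2] {ω : F}
variable {E : Type u} [Group E] [Finite E] {σ : E →* PG F}

/-- The kernel of a stem extension of `G₂(4)` is generated by one involution. -/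
theorem stem_ker_le (hF : Fintype.card F = 4) (hω : ω ^ 2 + ω + 1 = 0)
    (hσ : Function.Surjective σ) (hker : σ.ker ≤ Subgroup.center E) (hcom : σ.ker ≤ commutator E)
    (hcard : Nat.card (PG F) = 251596800) :
    ∃ z : E, z * z = 1 ∧ σ z = 1 ∧ σ.ker ≤ Subgroup.zpowers z := by
  obtain ⟨L, hs, hk, ht2, hk3⟩ := exists_normal hω hker hσ
  have hσt := L.σt hω hker
  set N := Subgroup.zpowers L.t with hN
  haveI : N.Normal := by
    refine ⟨fun x hx y => ?_⟩
    have hxc : x ∈ Subgroup.center E := (Subgroup.zpowers_le.2 (hker hσt)) hx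
    rw [Subgroup.mem_center_iff.1 hxc y, mul_inv_cancel_right]
    exact hx
  refine ⟨L.t, ht2, hσt, ?_⟩
  -- the lifts generate
  have hgenE : Subgroup.closure ({L.a, L.b, L.c, L.d, L.e, L.f} : Set E) = ⊤ := by
    set M := Subgroup.closure ({L.a, L.b, L.c, L.d, L.e, L.f} : Set E)
    have hM : M.map σ = ⊤ := by
      rw [eq_top_iff, ← hgen_gen ω hω hF, Subgroup.closure_le]
      rintro _ ⟨i, rfl⟩
      rcases Nat.lt_or_ge i 6 with hi | hi
      · interval_cases i
        · exact ⟨L.a, Subgroup.subset_closure (by simp), L.σa⟩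
        · exact ⟨L.b, Subgroup.subset_closure (by simp), L.σb⟩
        · exact ⟨L.c, Subgroup.subset_closure (by simp), L.σc⟩
        · exact ⟨L.d, Subgroup.subset_closure (by simp), L.σd⟩
        · exact ⟨L.e, Subgroup.subset_closure (by simp), L.σe⟩
        · exact ⟨L.f, Subgroup.subset_closure (by simp), L.σf⟩
      · rw [(holding ω hω).junk i hi]; exact one_mem _
    have hdec : ∀ x : E, ∃ m ∈ M, ∃ z, σ z = 1 ∧ x = m * z := fun x => by
      obtain ⟨m, hm, e⟩ := (hM ▸ Subgroup.mem_top (σ x) : σ x ∈ M.map σ)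
      exact ⟨m, hm, m⁻¹ * x, by rw [map_mul, map_inv, e, inv_mul_cancel], by group⟩
    have hc : commutator E ≤ M := by
      rw [commutator_def, Subgroup.commutator_le]
      intro x _ y _
      obtain ⟨m, hm, z, hz, rfl⟩ := hdec x
      obtain ⟨n, hn, w, hw, rfl⟩ := hdec y
      rw [commutatorElement_def]
      have e : m * z * (n * w) * (m * z)⁻¹ * (n * w)⁻¹ = m * n * m⁻¹ * n⁻¹ := by
        calc m * z * (n * w) * (m * z)⁻¹ * (n * w)⁻¹
            = m * (z * (n * w) * z⁻¹) * m⁻¹ * w⁻¹ * n⁻¹ := by group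
          _ = m * (n * w) * m⁻¹ * w⁻¹ * n⁻¹ := by rw [cen hker hz, mul_inv_cancel_right]
          _ = m * n * (w * m⁻¹ * w⁻¹) * n⁻¹ := by group
          _ = m * n * m⁻¹ * n⁻¹ := by rw [cen hker hw, mul_inv_cancel_right]
      rw [e]
      exact mul_mem (mul_mem (mul_mem hm hn) (inv_mem hm)) (inv_mem hn)
    rw [eq_top_iff]
    intro x _
    obtain ⟨m, hm, z, hz, rfl⟩ := hdec x
    exact mul_mem hm (hc (hcom hz))
  -- the quotient by `t`
  let q : E →* E ⧸ N := QuotientGroup.mk' N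
  have hqt : q L.t = 1 := (QuotientGroup.eq_one_iff _).2 (Subgroup.mem_zpowers _)
  let P : E := (L.a * L.b * L.c * L.f) ^ 5
  let g : ℕ → E ⧸ N := fun i =>
    q (([L.a, L.b, L.c, L.d, L.e, L.f, P] : List E).getD i 1)
  have hPP : P * P = 1 := L.k2_sq hω hker hs
  have hσP : σ P = 1 := by
    have e := rel_of_code hω [0, 1, 2, 5, 0, 1, 2, 5, 0, 1, 2, 5, 0, 1, 2, 5, 0, 1, 2, 5] []
      (by decide +kernel)
    simpa [P, L.σa, L.σb, L.σc, L.σf, pow_succ, mul_assoc] using e
  have hbb : L.b * L.b = 1 := (L.bb hω hker).trans hs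
  have hcc : L.c * L.c = 1 := (L.cc hω hker).trans hs
  have hff : L.f * L.f = 1 := (L.ff hω hker).trans hs
  have qa : q L.a * q L.a = 1 := by rw [← map_mul, show L.a * L.a = 1 from hs, map_one]
  have qb : q L.b * q L.b = 1 := by rw [← map_mul, hbb, map_one]
  have qc : q L.c * q L.c = 1 := by rw [← map_mul, hcc, map_one]
  have qd : q L.d * q L.d = 1 := by rw [← map_mul]; exact hqt
  have qe : q L.e * q L.e = 1 := by rw [← map_mul, L.ee hω hker]; exact hqt
  have qf : q L.f * q L.f = 1 := by rw [← map_mul, hff, map_one]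
  have qP : q P * q P = 1 := by rw [← map_mul, hPP, map_one]
  have braid3 : ∀ {x y : E ⧸ N}, x * x = 1 → y * y = 1 → y * x * y = x * y * x →
      x * y * (x * y) * (x * y) = 1 := by
    intro x y hx hy h
    calc x * y * (x * y) * (x * y) = x * y * x * (y * x * y) := by group
      _ = x * y * x * (x * y * x) := by rw [h]
      _ = x * y * (x * x) * y * x := by group
      _ = 1 := by rw [hx, mul_one, mul_assoc x y y, hy, mul_one, hx]
  have cm : ∀ {x y : E}, q x * q x = 1 → q y * q y = 1 → Commute x y →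
      q x * q y * (q x * q y) = 1 := by
    intro x y hx hy h
    rw [Commute.mul_mul_mul_comm ((h.map q).symm), hx, hy, one_mul]
  have r01 : q L.a * q L.b * (q L.a * q L.b) * (q L.a * q L.b) * (q L.a * q L.b) * (q L.a * q L.b) = 1 := by
    simp only [← map_mul]
    have h : L.a * L.b * L.a * L.b * L.a * (L.b * L.a * L.b * L.a * L.b) = 1 := by
      rw [L.ab]
      calc L.a * L.b * L.a * L.b * L.a * (L.a * L.b * L.a * L.b * L.a)
          = L.a * L.b * L.a * L.b * (L.a * L.a) * L.b * L.a * L.b * L.a := by group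
        _ = L.a * L.b * L.a * (L.b * L.b) * L.a * L.b * L.a := by
          rw [show L.a * L.a = 1 from hs]; group
        _ = L.a * L.b * (L.a * L.a) * L.b * L.a := by rw [hbb]; group
        _ = L.a * (L.b * L.b) * L.a := by rw [show L.a * L.a = 1 from hs]; group
        _ = 1 := by rw [hbb, mul_one]; exact hs
    rw [show L.a * L.b * (L.a * L.b) * (L.a * L.b) * (L.a * L.b) * (L.a * L.b) =
      L.a * L.b * L.a * L.b * L.a * (L.b * L.a * L.b * L.a * L.b) by group, h, map_one]
  have r12 := braid3 qb qc (by simp only [← map_mul]; rw [L.bc])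
  have r15 := braid3 qb qf (by simp only [← map_mul]; rw [L.bf])
  have r34 := braid3 qd qe (by simp only [← map_mul]; rw [L.de])
  have r02 := cm qa qc (L.ac hω hker).symm
  have r03 := cm qa qd (L.ad hω hker).symm
  have r04 := cm qa qe (L.ae hω hker).2.symm
  have r05 := cm qa qf (L.af hω hker).symm
  have r13 := cm qb qd (L.bd hω hker).symm
  have r14 := cm qb qe (L.be hω hker).2.symm
  have r24 := cm qc qe (L.ce hω hker).2.symm
  have r25 := cm qc qf (L.cf hω hker).symm
  have r35 := cm qd qf (L.fd hω hker)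
  have r45 := cm qe qf (L.fe hω hker).2
  have rk : q L.a * (q L.d * q L.c) ^ 4 = 1 := by
    rw [← map_mul, ← map_pow, ← map_mul]
    show q L.k = 1
    rw [hk, map_one]
  have r23 : (q L.c * q L.d) ^ 8 = 1 := by
    rw [pow_mul (q L.c * q L.d) 4 2, ← map_mul, ← map_pow, (L.pow_dc hω hker).1, map_pow, map_mul,
      show (q L.d * q L.c) ^ 4 = (q L.a)⁻¹ from eq_inv_of_mul_eq_one_right rk, pow_two, ← mul_inv_rev,
      qa, inv_one]
  have r22 : (q L.a * q L.b * q L.c * q L.f) ^ 5 * q P = 1 := by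
    rw [← map_mul, ← map_mul, ← map_mul, ← map_pow]; exact qP
  have rT : q L.T * q L.T * q L.T = 1 := by
    rw [← map_mul, ← map_mul]
    show q L.k3 = 1
    rw [hk3, hqt]
  have rz : ∀ x : E, q x * q x = 1 → q x * q P * (q x * q P) = 1 := fun x hx =>
    cm hx qP (cen hker hσP x).symm
  have hH : Holding g 7 G2FourB.baseRels :=
    { invol := fun x => by
        rcases Nat.lt_or_ge x 7 with hx | hx
        · interval_cases x
          exacts [qa, qb, qc, qd, qe, qf, qP]
        · simp only [g]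
          rw [List.getD_eq_default _ _ (by simpa using hx), map_one, mul_one]
      junk := fun x hx => by
        simp only [g]
        rw [List.getD_eq_default _ _ (by simpa using hx), map_one]
      base := by
        intro w hw
        simp only [G2FourB.baseRels, List.mem_cons, List.not_mem_nil, or_false] at hw
        have g0 : g 0 = q L.a := rfl
        have g1 : g 1 = q L.b := rfl
        have g2 : g 2 = q L.c := rfl
        have g3 : g 3 = q L.d := rfl
        have g4 : g 4 = q L.e := rfl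
        have g5 : g 5 = q L.f := rfl
        have g6 : g 6 = q P := rfl
        have za := rz L.a qa
        have zb := rz L.b qb
        have zc := rz L.c qc
        have zd := rz L.d qd
        have ze := rz L.e qe
        have zf := rz L.f qf
        simp only [Lifts.T, Lifts.X, map_mul, map_pow] at rT
        rcases hw with rfl | rfl | rfl | rfl | rfl | rfl | rfl | rfl | rfl | rfl | rfl | rfl | rfl |
          rfl | rfl | rfl | rfl | rfl | rfl | rfl | rfl | rfl | rfl | rfl | rfl | rfl | rfl | rfl |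
          rfl | rfl | rfl <;>
          simp only [List.map_cons, List.map_nil, List.prod_cons, List.prod_nil, g0, g1, g2, g3, g4, g5, g6,
            mul_one, pow_succ, pow_zero, one_mul, mul_assoc] at * <;>
          first | assumption | done }
  have hgq : Subgroup.closure (Set.range g) = ⊤ := by
    rw [eq_top_iff, ← Subgroup.map_top_of_surjective q (QuotientGroup.mk'_surjective N), ← hgenE,
      MonoidHom.map_closure, Subgroup.closure_le]
    rintro _ ⟨x, hx, rfl⟩
    simp only [Set.mem_insert_iff, Set.mem_singleton_iff] at hx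
    rcases hx with rfl | rfl | rfl | rfl | rfl | rfl
    exacts [Subgroup.subset_closure ⟨0, rfl⟩, Subgroup.subset_closure ⟨1, rfl⟩,
      Subgroup.subset_closure ⟨2, rfl⟩, Subgroup.subset_closure ⟨3, rfl⟩,
      Subgroup.subset_closure ⟨4, rfl⟩, Subgroup.subset_closure ⟨5, rfl⟩]
  obtain ⟨hfin, hle⟩ := card_le_seven hH hgq
  have hNk : N ≤ σ.ker := by rw [hN, Subgroup.zpowers_le]; exact hσt
  let σ' : E ⧸ N →* PG F := QuotientGroup.lift N σ hNk
  have hs' : Function.Surjective σ' := QuotientGroup.lift_surjective_of_surjective _ _ hσ _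
  have hbij := hs'.bijective_of_nat_card_le (hle.trans hcard.ge)
  intro x hx
  rw [← QuotientGroup.eq_one_iff]
  exact hbij.1 (show σ' (QuotientGroup.mk x) = σ' 1 by rw [map_one]; exact hx)

end Bound

end Cfsg.Agent.G2Four
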